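import Mathlib.RingTheory.HopfAlgebra.Basic
import Mathlib.RingTheory.Bialgebra.Basic
import Mathlib.Algebra.Algebra.Subalgebra.Lattice

/-!
# Checking the antipode axioms on algebra generators

For a bialgebra `H` and a linear anti-multiplicative map `S : H → H` with `S 1 = 1`, the antipode
axioms hold as soon as they hold on a set of algebra generators.
-/

set_option linter.unusedSectionVars false
set_option linter.unusedVariables false
set_option linter.style.longLine false

universe u v

open TensorProduct

namespace Groth.Agent.Lib.Helper84.RLie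

section AntipodeGen

variable {k : Type u} [CommRing k] {H : Type v} [Ring H] [Bialgebra k H]
  (S : H →ₗ[k] H) (hS : ∀ a b, S (a * b) = S b * S a)

theorem mulS_mul_tmul (hS : ∀ a b, S (a * b) = S b * S a) (X : H ⊗[k] H) (c d : H) :
    LinearMap.mul' k H (S.rTensor H (X * (c ⊗ₜ[k] d))) =
      S c * LinearMap.mul' k H (S.rTensor H X) * d := by
  induction X using TensorProduct.induction_on with
  | zero => simp
  | tmul a b => simp [hS, mul_assoc]
  | add X Y hX hY => simp only [add_mul, map_add, hX, hY, mul_add]

theorem mulS_mul_of (hS : ∀ a b, S (a * b) = S b * S a) (u : H)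
    (hu : LinearMap.mul' k H (S.rTensor H (Coalgebra.comul (R := k) u)) =
      algebraMap k H (Coalgebra.counit (R := k) u)) (Y : H ⊗[k] H) :
    LinearMap.mul' k H (S.rTensor H (Coalgebra.comul (R := k) u * Y)) =
      (Coalgebra.counit (R := k) u : k) • LinearMap.mul' k H (S.rTensor H Y) := by
  induction Y using TensorProduct.induction_on with
  | zero => simp
  | tmul c d =>
    rw [mulS_mul_tmul S hS, hu]
    simp [Algebra.algebraMap_eq_smul_one]
  | add X Y hX hY => simp only [mul_add, map_add, hX, hY, smul_add]

theorem antipode_rTensor_of_gen (hS : ∀ a b, S (a * b) = S b * S a) (hS1 : S 1 = 1)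
    (G : Set H) (hG : Algebra.adjoin k G = ⊤)
    (hgen : ∀ g ∈ G, LinearMap.mul' k H (S.rTensor H (Coalgebra.comul (R := k) g)) =
      algebraMap k H (Coalgebra.counit (R := k) g)) :
    LinearMap.mul' k H ∘ₗ S.rTensor H ∘ₗ Coalgebra.comul =
      Algebra.linearMap k H ∘ₗ Coalgebra.counit := by
  apply LinearMap.ext
  intro u
  have hu : u ∈ Algebra.adjoin k G := by rw [hG]; trivial
  simp only [LinearMap.comp_apply, Algebra.linearMap_apply]
  induction hu using Algebra.adjoin_induction with
  | mem g hg => exact hgen g hg
  | algebraMap r =>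
    rw [Bialgebra.comul_algebraMap, Bialgebra.counit_algebraMap, Algebra.algebraMap_eq_smul_one,
      Algebra.TensorProduct.one_def, map_smul, map_smul, LinearMap.rTensor_tmul,
      LinearMap.mul'_apply, hS1, mul_one, ← Algebra.algebraMap_eq_smul_one]
  | add a b _ _ ha hb => simp only [map_add, ha, hb]
  | mul a b _ _ ha hb =>
    rw [Bialgebra.comul_mul, mulS_mul_of S hS a ha, hb, Bialgebra.counit_mul, map_mul,
      Algebra.smul_def]

theorem mulS'_tmul_mul (hS : ∀ a b, S (a * b) = S b * S a) (a b : H) (Y : H ⊗[k] H) :
    LinearMap.mul' k H (S.lTensor H ((a ⊗ₜ[k] b) * Y)) =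
      a * LinearMap.mul' k H (S.lTensor H Y) * S b := by
  induction Y using TensorProduct.induction_on with
  | zero => simp
  | tmul c d => simp [hS, mul_assoc]
  | add X Y hX hY => simp only [mul_add, map_add, hX, hY, add_mul]

theorem mulS'_mul_of (hS : ∀ a b, S (a * b) = S b * S a) (v : H)
    (hv : LinearMap.mul' k H (S.lTensor H (Coalgebra.comul (R := k) v)) =
      algebraMap k H (Coalgebra.counit (R := k) v)) (X : H ⊗[k] H) :
    LinearMap.mul' k H (S.lTensor H (X * Coalgebra.comul (R := k) v)) =
      (Coalgebra.counit (R := k) v : k) • LinearMap.mul' k H (S.lTensor H X) := by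
  induction X using TensorProduct.induction_on with
  | zero => simp
  | tmul c d =>
    rw [mulS'_tmul_mul S hS, hv]
    simp [Algebra.algebraMap_eq_smul_one]
  | add X Y hX hY => simp only [add_mul, map_add, hX, hY, smul_add]

theorem antipode_lTensor_of_gen (hS : ∀ a b, S (a * b) = S b * S a) (hS1 : S 1 = 1)
    (G : Set H) (hG : Algebra.adjoin k G = ⊤)
    (hgen : ∀ g ∈ G, LinearMap.mul' k H (S.lTensor H (Coalgebra.comul (R := k) g)) =
      algebraMap k H (Coalgebra.counit (R := k) g)) :
    LinearMap.mul' k H ∘ₗ S.lTensor H ∘ₗ Coalgebra.comul =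
      Algebra.linearMap k H ∘ₗ Coalgebra.counit := by
  apply LinearMap.ext
  intro u
  have hu : u ∈ Algebra.adjoin k G := by rw [hG]; trivial
  simp only [LinearMap.comp_apply, Algebra.linearMap_apply]
  induction hu using Algebra.adjoin_induction with
  | mem g hg => exact hgen g hg
  | algebraMap r =>
    rw [Bialgebra.comul_algebraMap, Bialgebra.counit_algebraMap, Algebra.algebraMap_eq_smul_one,
      Algebra.TensorProduct.one_def, map_smul, map_smul, LinearMap.lTensor_tmul,
      LinearMap.mul'_apply, hS1, mul_one, ← Algebra.algebraMap_eq_smul_one]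
  | add a b _ _ ha hb => simp only [map_add, ha, hb]
  | mul a b _ _ ha hb =>
    rw [Bialgebra.comul_mul, mulS'_mul_of S hS b hb, ha, Bialgebra.counit_mul, map_mul,
      Algebra.smul_def]
    exact (Algebra.commutes _ _)

end AntipodeGen

end Groth.Agent.Lib.Helper84.RLie
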