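import Mathlib.Data.Finsupp.Multiset
import Mathlib.Data.Multiset.Sort
import Mathlib.Data.List.Sort
import Mathlib.Data.Multiset.Replicate

/-!
# Quotient and remainder of a list of indices by `p`

For a list `l` over a linearly ordered index type: `qM p l` is the multiset with
`count i = l.count i / p`, `rM p l` the one with `count i = l.count i % p`, and `rL p l` its sorted
list.
-/

set_option linter.unusedSectionVars false
set_option linter.unusedVariables false
set_option linter.style.longLine false

universe w

namespace Groth.Agent.Lib.Helper84.RLie

section

variable {ι : Type w} [LinearOrder ι] (p : ℕ)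

/-- The multiset of quotients of the multiplicities by `p`. -/
noncomputable def qM (l : List ι) : Multiset ι :=
  Finsupp.toMultiset ((Multiset.toFinsupp (l : Multiset ι)).mapRange (fun a => a / p) (Nat.zero_div p))

/-- The multiset of remainders of the multiplicities by `p`. -/
noncomputable def rM (l : List ι) : Multiset ι :=
  Finsupp.toMultiset ((Multiset.toFinsupp (l : Multiset ι)).mapRange (fun a => a % p) (Nat.zero_mod p))

theorem count_qM (l : List ι) (i : ι) : (qM p l).count i = l.count i / p := by
  rw [qM, Finsupp.count_toMultiset, Finsupp.mapRange_apply, Multiset.toFinsupp_apply,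
    Multiset.coe_count]

theorem count_rM (l : List ι) (i : ι) : (rM p l).count i = l.count i % p := by
  rw [rM, Finsupp.count_toMultiset, Finsupp.mapRange_apply, Multiset.toFinsupp_apply,
    Multiset.coe_count]

/-- The sorted list of remainders. -/
noncomputable def rL (l : List ι) : List ι := (rM p l).sort

theorem coe_rL (l : List ι) : ((rL p l : List ι) : Multiset ι) = rM p l := Multiset.sort_eq _ _

theorem rL_sorted (l : List ι) : (rL p l).SortedLE :=
  List.sortedLE_iff_pairwise.mpr (Multiset.pairwise_sort _ _)

theorem count_rL (l : List ι) (i : ι) : (rL p l).count i = l.count i % p := by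
  rw [← Multiset.coe_count, coe_rL, count_rM]

theorem coe_eq_nsmul_qM_add_rM (l : List ι) : (l : Multiset ι) = p • qM p l + rM p l := by
  ext i
  rw [Multiset.coe_count, Multiset.count_add, Multiset.count_nsmul, count_qM, count_rM]
  exact (Nat.div_add_mod _ _).symm

theorem rL_eq_of_rM_eq {l l' : List ι} (h : rM p l = rM p l') : rL p l = rL p l' := by
  unfold rL; rw [h]

/-- Two sorted lists with the same multiplicities are equal. -/
theorem eq_of_sorted_of_count_eq {l l' : List ι} (hl : l.SortedLE) (hl' : l'.SortedLE)
    (h : ∀ i, l.count i = l'.count i) : l = l' :=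
  (List.perm_iff_count.mpr h).eq_of_sortedLE hl hl'

theorem qM_eq_zero_iff (l : List ι) : qM p l = 0 ↔ ∀ i, l.count i / p = 0 := by
  constructor
  · intro h i
    rw [← count_qM, h, Multiset.count_zero]
  · intro h
    ext i
    rw [count_qM, h, Multiset.count_zero]

end

end Groth.Agent.Lib.Helper84.RLie
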