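import Groth.Agent.Lib.Helper84.CMM.UPrim

/-!
# Primitive elements via a PBW-type basis (generic)

Let `H` be a `k`-algebra with an algebra map `Δ : H → H ⊗ H`, and `y i` primitive elements.  If the
sorted monomials `gmon y l`, `l` ranging over a sublist-closed set `S` of sorted lists, form a basis
of `H` and the multiplicities of the lists in `S` are nonzero in `k`, then every primitive element
lies in the span of the `y i`.
-/

set_option linter.unusedSectionVars false
set_option linter.unusedVariables false
set_option linter.style.longLine false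

universe u v w

open TensorProduct

namespace Groth.Agent.Lib.Helper84.RLie

open Groth.Agent.Lib.Helper84.CMM (splits splits_nil splits_cons splits_sublist)

section Gen

variable {k : Type u} [Field k] {H : Type v} [Ring H] [Algebra k H]
  {ι : Type w} (y : ι → H)

/-- Monomials in the `y i`. -/
def gmon (l : List ι) : H := (l.map y).prod

theorem gmon_nil : gmon y [] = 1 := rfl

theorem gmon_cons (a : ι) (l : List ι) : gmon y (a :: l) = y a * gmon y l := by
  simp [gmon]

theorem gmon_singleton (a : ι) : gmon y [a] = y a := by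
  simp [gmon]

theorem gmon_append (l l' : List ι) : gmon y (l ++ l') = gmon y l * gmon y l' := by
  simp [gmon]

variable (Δ : H →ₐ[k] H ⊗[k] H)

theorem delta_gmon (hy : ∀ i, Δ (y i) = y i ⊗ₜ[k] (1 : H) + (1 : H) ⊗ₜ[k] y i) (l : List ι) :
    Δ (gmon y l) = ((splits l).map (fun p => gmon y p.1 ⊗ₜ[k] gmon y p.2)).sum := by
  induction l with
  | nil =>
    rw [splits_nil, gmon_nil, map_one, Algebra.TensorProduct.one_def]
    simp [gmon_nil]
  | cons h l ih =>
    rw [gmon_cons, map_mul, hy, ih, splits_cons, List.map_append, List.sum_append,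
      List.map_map, List.map_map, add_mul]
    congr 1
    · rw [← List.sum_map_mul_left]
      congr 1
      apply List.map_congr_left
      intro p _
      simp only [Function.comp_apply, Algebra.TensorProduct.tmul_mul_tmul, one_mul, gmon_cons]
    · rw [← List.sum_map_mul_left]
      congr 1
      apply List.map_congr_left
      intro p _
      simp only [Function.comp_apply, Algebra.TensorProduct.tmul_mul_tmul, one_mul, gmon_cons]

/-- `φ ⊗ id` followed by the identification `k ⊗ H = H`. -/
noncomputable def gslice (φ : H →ₗ[k] k) : H ⊗[k] H →ₗ[k] H :=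
  (TensorProduct.lid k H).toLinearMap ∘ₗ φ.rTensor H

theorem gslice_tmul (φ : H →ₗ[k] k) (x z : H) : gslice φ (x ⊗ₜ[k] z) = φ x • z := by
  simp [gslice]

theorem gslice_delta_gmon (hy : ∀ i, Δ (y i) = y i ⊗ₜ[k] (1 : H) + (1 : H) ⊗ₜ[k] y i)
    (φ : H →ₗ[k] k) (l : List ι) :
    gslice φ (Δ (gmon y l)) = ((splits l).map (fun p => φ (gmon y p.1) • gmon y p.2)).sum := by
  rw [delta_gmon y Δ hy, map_list_sum, List.map_map]
  apply congrArg
  apply List.map_congr_left
  intro p _
  simp only [Function.comp_apply, gslice_tmul]

/-- The sum over splittings with empty first part. -/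
theorem gE_sum (l : List ι) :
    ((splits l).map (fun p => if p.1 = [] then gmon y p.2 else 0)).sum = gmon y l := by
  induction l with
  | nil => simp [splits_nil]
  | cons h l ih =>
    rw [splits_cons, List.map_append, List.sum_append, List.map_map, List.map_map]
    have h1 : ((fun p : List ι × List ι => if p.1 = [] then gmon y p.2 else 0) ∘
        fun p : List ι × List ι => (h :: p.1, p.2)) = fun _ => (0 : H) := by
      funext p
      simp
    have h2 : ((fun p : List ι × List ι => if p.1 = [] then gmon y p.2 else 0) ∘
        fun p : List ι × List ι => (p.1, h :: p.2)) =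
        fun p => y h * (if p.1 = [] then gmon y p.2 else 0) := by
      funext p
      simp only [Function.comp_apply]
      split_ifs
      · rw [gmon_cons]
      · rw [mul_zero]
    rw [h1, h2, List.sum_map_mul_left, ih, gmon_cons]
    simp

variable [DecidableEq ι]

/-- The sum over splittings with first part `[a]`. -/
noncomputable def gFsum (a : ι) (l : List ι) : H :=
  ((splits l).map (fun p => if p.1 = [a] then gmon y p.2 else 0)).sum

theorem gFsum_nil (a : ι) : gFsum y a [] = 0 := by
  simp [gFsum, splits_nil]

theorem gFsum_cons (a h : ι) (l : List ι) :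
    gFsum y a (h :: l) = (if h = a then gmon y l else 0) + y h * gFsum y a l := by
  rw [gFsum, splits_cons, List.map_append, List.sum_append, List.map_map, List.map_map]
  have h1 : ((fun p : List ι × List ι => if p.1 = [a] then gmon y p.2 else 0) ∘
      fun p : List ι × List ι => (h :: p.1, p.2)) =
      fun p => if h = a then (if p.1 = [] then gmon y p.2 else 0) else 0 := by
    funext p
    simp only [Function.comp_apply, List.cons.injEq]
    by_cases hh : h = a
    · simp [hh]
    · simp [hh]
  have h2 : ((fun p : List ι × List ι => if p.1 = [a] then gmon y p.2 else 0) ∘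
      fun p : List ι × List ι => (p.1, h :: p.2)) =
      fun p => y h * (if p.1 = [a] then gmon y p.2 else 0) := by
    funext p
    simp only [Function.comp_apply]
    split_ifs
    · rw [gmon_cons]
    · rw [mul_zero]
  rw [h1, h2, List.sum_map_mul_left]
  congr 1
  by_cases hh : h = a
  · simp only [hh, if_true]
    exact gE_sum y l
  · simp [hh]

end Gen

section Sorted

variable {k : Type u} [Field k] {H : Type v} [Ring H] [Algebra k H]
  {ι : Type w} [LinearOrder ι] (y : ι → H)

theorem gFsum_sorted (a : ι) : ∀ (l : List ι), l.Pairwise (· ≤ ·) →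
    gFsum y a l = (l.count a) • gmon y (l.erase a) := by
  intro l
  induction l with
  | nil =>
    intro _
    rw [gFsum_nil]
    simp
  | cons h l ih =>
    intro hl
    have hl' : l.Pairwise (· ≤ ·) := (List.pairwise_cons.mp hl).2
    rw [gFsum_cons, ih hl']
    by_cases hh : h = a
    · subst hh
      rw [if_pos rfl, List.erase_cons_head, List.count_cons_self]
      by_cases hmem : h ∈ l
      · have hperm : (h :: l.erase h).Perm l := (List.perm_cons_erase hmem).symm
        have hs1 : (h :: l.erase h).SortedLE :=
          List.sortedLE_iff_pairwise.mpr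
            (hl.sublist ((List.erase_sublist (a := h) (l := l)).cons_cons h))
        have hs2 : l.SortedLE := List.sortedLE_iff_pairwise.mpr hl'
        have heq : h :: l.erase h = l := hperm.eq_of_sortedLE hs1 hs2
        rw [mul_smul_comm, ← gmon_cons, heq, add_smul, one_smul, add_comm]
      · rw [List.count_eq_zero_of_not_mem hmem]
        simp
    · have hne : (h == a) = false := by simpa using hh
      rw [if_neg hh, zero_add, List.erase_cons_tail (by simpa using hh), List.count_cons_of_ne hh,
        mul_smul_comm, ← gmon_cons]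

variable (Δ : H →ₐ[k] H ⊗[k] H)

theorem gcoord_mon (S : Set (List ι)) (B : Module.Basis {l : List ι // l ∈ S} k H)
    (hB : ∀ l, B l = gmon y l.1) (s : List ι) (hs : s ∈ S) (t : {l : List ι // l ∈ S}) :
    B.coord t (gmon y s) = if s = t.1 then 1 else 0 := by
  rw [← hB ⟨s, hs⟩, Module.Basis.coord_apply, Module.Basis.repr_self, Finsupp.single_apply]
  by_cases h : s = t.1
  · rw [if_pos h, if_pos (Subtype.ext h)]
  · rw [if_neg h, if_neg (fun h' => h (congrArg Subtype.val h'))]

/-- Primitive elements lie in the span of the generators, given a PBW-type basis. -/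
theorem mem_span_of_prim (hy : ∀ i, Δ (y i) = y i ⊗ₜ[k] (1 : H) + (1 : H) ⊗ₜ[k] y i)
    (S : Set (List ι)) (hsorted : ∀ l ∈ S, l.SortedLE)
    (hsub : ∀ l ∈ S, ∀ s : List ι, s.Sublist l → s ∈ S) (hnil : [] ∈ S)
    (hcount : ∀ l ∈ S, ∀ a ∈ l, ((l.count a : ℕ) : k) ≠ 0)
    (B : Module.Basis {l : List ι // l ∈ S} k H) (hB : ∀ l, B l = gmon y l.1)
    (x : H) (hx : Δ x = x ⊗ₜ[k] (1 : H) + (1 : H) ⊗ₜ[k] x) :
    x ∈ Submodule.span k (Set.range y) := by
  classical
  have hone : (1 : H) = gmon y [] := rfl
  -- slicing with the coordinate at `[]` is the identity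
  have hslice_nil : ∀ z : H, gslice (B.coord ⟨[], hnil⟩) (Δ z) = z := by
    have h : (gslice (B.coord ⟨[], hnil⟩)) ∘ₗ Δ.toLinearMap = LinearMap.id := by
      apply B.ext
      intro l
      change gslice (B.coord ⟨[], hnil⟩) (Δ (B l)) = B l
      rw [hB, gslice_delta_gmon y Δ hy, ← gE_sum y l.1]
      congr 1
      apply List.map_congr_left
      intro q hq
      have hs := hsub l.1 l.2 q.1 (splits_sublist l.1 q hq).1
      rw [gcoord_mon y S B hB q.1 hs]
      simp only [ite_smul, one_smul, zero_smul]
    intro z
    exact LinearMap.congr_fun h z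
  -- slicing with the coordinate at `[a]`
  have hslice_single : ∀ (a : ι) (ha : [a] ∈ S) (l : {l : List ι // l ∈ S}),
      gslice (B.coord ⟨[a], ha⟩) (Δ (B l)) = gFsum y a l.1 := by
    intro a ha l
    rw [hB, gslice_delta_gmon y Δ hy, gFsum]
    congr 1
    apply List.map_congr_left
    intro q hq
    have hs := hsub l.1 l.2 q.1 (splits_sublist l.1 q hq).1
    rw [gcoord_mon y S B hB q.1 hs]
    simp only [ite_smul, one_smul, zero_smul]
  -- the coefficient at the empty list vanishes
  have hnil0 : B.repr x ⟨[], hnil⟩ = 0 := by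
    have h1 := hslice_nil x
    rw [hx, map_add, gslice_tmul, gslice_tmul] at h1
    have h2 : B.coord ⟨[], hnil⟩ (1 : H) = 1 := by
      rw [hone, gcoord_mon y S B hB [] hnil, if_pos rfl]
    rw [h2, one_smul, add_eq_right] at h1
    have h3 : (1 : H) ≠ 0 := by
      rw [hone, ← hB ⟨[], hnil⟩]
      exact B.ne_zero _
    exact (smul_eq_zero.mp h1).resolve_right h3
  -- the coefficients at lists of length at least two vanish
  have hlong : ∀ l₀ : {l : List ι // l ∈ S}, 2 ≤ l₀.1.length → B.repr x l₀ = 0 := by
    intro l₀ hlen
    obtain ⟨a, rest, hl₀⟩ : ∃ a rest, l₀.1 = a :: rest := by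
      cases h : l₀.1 with
      | nil => rw [h] at hlen; simp at hlen
      | cons a rest => exact ⟨a, rest, rfl⟩
    have hrest : rest ≠ [] := by
      intro h
      rw [hl₀, h] at hlen
      simp at hlen
    have herase : l₀.1.erase a = rest := by rw [hl₀, List.erase_cons_head]
    have hsr : rest ∈ S :=
      hsub l₀.1 l₀.2 rest (by rw [hl₀]; exact List.sublist_cons_self a rest)
    have hsa : [a] ∈ S :=
      hsub l₀.1 l₀.2 [a] (by rw [hl₀]; exact (List.nil_sublist rest).cons_cons a)
    have hfun : (B.coord ⟨rest, hsr⟩) ∘ₗ (gslice (B.coord ⟨[a], hsa⟩)) ∘ₗ Δ.toLinearMap =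
        ((l₀.1.count a : ℕ) : k) • B.coord l₀ := by
      apply B.ext
      intro l
      change B.coord ⟨rest, hsr⟩ (gslice (B.coord ⟨[a], hsa⟩) (Δ (B l))) =
        ((l₀.1.count a : ℕ) : k) • B.coord l₀ (B l)
      rw [hslice_single a hsa l,
        gFsum_sorted y a l.1 (List.sortedLE_iff_pairwise.mp (hsorted l.1 l.2)),
        map_nsmul, gcoord_mon y S B hB _ (hsub l.1 l.2 _ List.erase_sublist),
        Module.Basis.coord_apply, Module.Basis.repr_self, Finsupp.single_apply]
      by_cases hll : l = l₀
      · subst hll
        rw [if_pos rfl, if_pos herase]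
        simp
      · rw [if_neg hll, smul_zero]
        by_cases hmem : a ∈ l.1
        · have hne : ¬ (l.1.erase a = rest) := by
            intro he
            apply hll
            apply Subtype.ext
            have p1 : l.1.Perm (a :: rest) := by
              rw [← he]; exact List.perm_cons_erase hmem
            rw [← hl₀] at p1
            exact p1.eq_of_sortedLE (hsorted l.1 l.2) (hsorted l₀.1 l₀.2)
          rw [if_neg hne, smul_zero]
        · rw [List.count_eq_zero_of_not_mem hmem, zero_smul]
    have h1 := LinearMap.congr_fun hfun x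
    change B.coord ⟨rest, hsr⟩ (gslice (B.coord ⟨[a], hsa⟩) (Δ x)) =
      ((l₀.1.count a : ℕ) : k) • B.coord l₀ x at h1
    rw [hx, map_add, gslice_tmul, gslice_tmul] at h1
    have h2 : B.coord ⟨[a], hsa⟩ (1 : H) = 0 := by
      rw [hone, gcoord_mon y S B hB [] hnil, if_neg]
      intro h
      exact List.cons_ne_nil _ _ h.symm
    rw [h2, zero_smul, add_zero, map_smul, hone, gcoord_mon y S B hB [] hnil,
      if_neg (fun h : [] = rest => hrest h.symm), smul_zero] at h1
    have hc : ((l₀.1.count a : ℕ) : k) ≠ 0 :=
      hcount l₀.1 l₀.2 a (by rw [hl₀]; exact List.mem_cons_self)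
    exact (smul_eq_zero.mp h1.symm).resolve_left hc
  -- conclude
  have hsupp : x ∈ Submodule.span k (B '' {l | l.1.length = 1}) := by
    rw [Module.Basis.mem_span_image]
    intro l hl
    have hne : B.repr x l ≠ 0 := Finsupp.mem_support_iff.mp hl
    change l.1.length = 1
    by_contra hlen
    rcases Nat.lt_or_ge l.1.length 2 with h | h
    · have h0 : l.1.length = 0 := by omega
      have : l = ⟨[], hnil⟩ := Subtype.ext (List.length_eq_zero_iff.mp h0)
      rw [this] at hne
      exact hne hnil0
    · exact hne (hlong l h)
  refine (Submodule.span_le.mpr ?_) hsupp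
  rintro _ ⟨l, hl, rfl⟩
  have hl' : l.1.length = 1 := hl
  obtain ⟨a, ha⟩ := List.length_eq_one_iff.mp hl'
  apply Submodule.subset_span
  refine ⟨a, ?_⟩
  rw [hB, ha, gmon_singleton]

end Sorted

end Groth.Agent.Lib.Helper84.RLie
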