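import Groth.Agent.Lib.Helper84.RLie.RestrPBW

/-!
# The restricted enveloping algebra `u(L) = U(L) / (x^p - x^[p])`

It is finite-dimensional when `L` is, and `L → u(L)` is injective.
-/

set_option linter.unusedSectionVars false
set_option linter.unusedVariables false
set_option linter.style.longLine false

universe u v w

namespace Groth.Agent.Lib.Helper84.RLie

attribute [local instance 100] LieRing.ofAssociativeRing

open Groth.Agent.Lib.Helper85.PBW (mon mon_cons mon_nil mon_append Mlt SL)

section Env

variable {k : Type u} [Field k] {p : ℕ} [hp : Fact p.Prime] [CharP k p]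
  {L : Type v} [LieRing L] [LieAlgebra k L] (φ : PLie.PMap k p L)

/-- The ideal generated by the `ξ x = (ι x)^p - ι (x^[p])`. -/
noncomputable def Ixi : Ideal (UniversalEnvelopingAlgebra k L) :=
  Ideal.span (Set.range (xi φ))

theorem xi_mem_Ixi (x : L) : xi φ x ∈ Ixi φ := Ideal.subset_span ⟨x, rfl⟩

instance Ixi_isTwoSided : (Ixi φ).IsTwoSided := by
  refine ⟨fun {a} c ha => ?_⟩
  unfold Ixi at ha ⊢
  induction ha using Submodule.span_induction with
  | mem y hy =>
    obtain ⟨x, rfl⟩ := hy
    rw [xi_comm]
    exact Ideal.mul_mem_left _ _ (Ideal.subset_span ⟨x, rfl⟩)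
  | zero => rw [zero_mul]; exact zero_mem _
  | add y z _ _ hy hz => rw [add_mul]; exact add_mem hy hz
  | smul r y _ hy =>
    rw [smul_eq_mul, mul_assoc]
    exact Ideal.mul_mem_left _ _ hy

/-- The restricted enveloping algebra. -/
abbrev uL : Type (max u v) := UniversalEnvelopingAlgebra k L ⧸ Ixi φ

/-- The quotient map `U(L) → u(L)`. -/
noncomputable def piU : UniversalEnvelopingAlgebra k L →ₐ[k] uL φ :=
  Ideal.Quotient.mkₐ k (Ixi φ)

theorem piU_surjective : Function.Surjective (piU φ) := Ideal.Quotient.mkₐ_surjective k (Ixi φ)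

theorem piU_eq_zero_iff (a : UniversalEnvelopingAlgebra k L) : piU φ a = 0 ↔ a ∈ Ixi φ :=
  Ideal.Quotient.eq_zero_iff_mem

/-- The canonical map `L → u(L)`. -/
noncomputable def ιu : L →ₗ[k] uL φ := (piU φ).toLinearMap ∘ₗ ιLin

theorem ιu_apply (x : L) : ιu φ x = piU φ (UniversalEnvelopingAlgebra.ι k x) := rfl

theorem ιu_lie (x y : L) : ιu φ ⁅x, y⁆ = ιu φ x * ιu φ y - ιu φ y * ιu φ x := by
  rw [ιu_apply, ιu_apply, ιu_apply, LieHom.map_lie, LieRing.of_associative_ring_bracket, map_sub,
    map_mul, map_mul]

theorem ιu_pmap (x : L) : ιu φ (φ x) = ιu φ x ^ p := by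
  rw [ιu_apply, ιu_apply, ← map_pow, ← sub_eq_zero, ← map_sub, piU_eq_zero_iff]
  have := xi_mem_Ixi φ x
  unfold xi at this
  have h2 := neg_mem this
  rwa [neg_sub] at h2

end Env

section Basis

variable {k : Type u} [Field k] {p : ℕ} [hp : Fact p.Prime] [CharP k p]
  {L : Type v} [LieRing L] [LieAlgebra k L] (φ : PLie.PMap k p L)
  {ι : Type w} [LinearOrder ι] (b : Module.Basis ι k L)

/-- The restricted sorted lists. -/
def Srestr (p : ℕ) (ι : Type w) [LinearOrder ι] : Set (List ι) :=
  {l | l.SortedLE ∧ ∀ i, l.count i < p}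

theorem finite_Srestr [Finite ι] : (Srestr p ι).Finite := by
  classical
  have : Finite {l // l ∈ Srestr p ι} := by
    refine Finite.of_injective
      (fun l : {l // l ∈ Srestr p ι} => fun i => (⟨l.1.count i, l.2.2 i⟩ : Fin p)) ?_
    intro l l' h
    apply Subtype.ext
    apply eq_of_sorted_of_count_eq l.2.1 l'.2.1
    intro i
    have := congrFun h i
    exact congrArg Fin.val this
  exact Set.toFinite _

theorem rL_mem_Srestr (l : List ι) : rL p l ∈ Srestr p ι :=
  ⟨rL_sorted p l, fun i => by rw [count_rL]; exact Nat.mod_lt _ hp.out.pos⟩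

/-- `u(L)` is spanned by the images of the restricted monomials. -/
theorem span_restricted_eq_top :
    (⊤ : Submodule k (uL φ)) ≤
      Submodule.span k ((fun l : List ι => piU φ (mon b l)) '' Srestr p ι) := by
  obtain ⟨B', hB'⟩ := exists_basis_Tel b φ
  rintro y -
  obtain ⟨a, rfl⟩ := piU_surjective φ y
  have ha : a ∈ Submodule.span k (Set.range B') := by rw [B'.span_eq]; trivial
  induction ha using Submodule.span_induction with
  | mem x hx =>
    obtain ⟨l, rfl⟩ := hx
    rw [hB']
    by_cases hq : qM p l.1 = 0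
    · rw [Tel_of_qM_eq_zero b φ hq]
      exact Submodule.subset_span ⟨rL p l.1, rL_mem_Srestr l.1, rfl⟩
    · have : piU φ (Tel b φ l.1) = 0 := by
        rw [piU_eq_zero_iff]
        exact Tel_mem_of_qM_ne_zero b φ (Ixi φ) (fun i => xi_mem_Ixi φ (b i)) hq
      rw [this]
      exact zero_mem _
  | zero => rw [map_zero]; exact zero_mem _
  | add x y _ _ hx hy => rw [map_add]; exact add_mem hx hy
  | smul c x _ hx => rw [map_smul]; exact Submodule.smul_mem _ _ hx

theorem finite_uL [Finite ι] (b : Module.Basis ι k L) : Module.Finite k (uL φ) := by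
  rw [Module.finite_def]
  have h := span_restricted_eq_top φ b
  rw [top_le_iff] at h
  rw [← h]
  exact Submodule.fg_span ((finite_Srestr (p := p) (ι := ι)).image _)

theorem rL_singleton (i : ι) : rL p [i] = [i] := by
  apply eq_of_sorted_of_count_eq (rL_sorted p [i])
    (List.sortedLE_iff_pairwise.mpr (List.pairwise_singleton _ _))
  intro j
  rw [count_rL]
  apply Nat.mod_eq_of_lt
  have h1 : [i].count j ≤ 1 := by
    have := List.count_le_length (a := j) (l := [i])
    simpa using this
  exact lt_of_le_of_lt h1 hp.out.one_lt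

theorem qM_singleton (i : ι) : qM p [i] = 0 := by
  rw [qM_eq_zero_iff]
  intro j
  apply Nat.div_eq_of_lt
  have h1 : [i].count j ≤ 1 := by
    have := List.count_le_length (a := j) (l := [i])
    simpa using this
  exact lt_of_le_of_lt h1 hp.out.one_lt

/-- `ι x ∈ I` forces `x = 0`. -/
theorem eq_zero_of_ι_mem_Ixi (b : Module.Basis ι k L) (x : L)
    (hx : UniversalEnvelopingAlgebra.ι k x ∈ Ixi φ) : x = 0 := by
  classical
  obtain ⟨B', hB'⟩ := exists_basis_Tel b φ
  set I' : Submodule k (UniversalEnvelopingAlgebra k L) :=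
    Submodule.span k (B' '' {l | qM p l.1 ≠ 0}) with hI'
  -- Lemma A
  have hA : ∀ (i : ι) (w : UniversalEnvelopingAlgebra k L), xi φ (b i) * w ∈ I' := by
    intro i w
    have hw : w ∈ Submodule.span k (Set.range B') := by rw [B'.span_eq]; trivial
    induction hw using Submodule.span_induction with
    | mem y hy =>
      obtain ⟨l, rfl⟩ := hy
      rw [hB']
      obtain ⟨l', hl', he⟩ := xi_mul_Tel b φ i l.1
      rw [he, ← hB']
      exact Submodule.subset_span ⟨l', hl', rfl⟩
    | zero => rw [mul_zero]; exact zero_mem _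
    | add y z _ _ hy hz => rw [mul_add]; exact add_mem hy hz
    | smul c y _ hy => rw [mul_smul_comm]; exact Submodule.smul_mem _ _ hy
  -- Lemma C
  have hC : ∀ (a v : UniversalEnvelopingAlgebra k L), v ∈ I' → a * v ∈ I' := by
    intro a v hv
    induction hv using Submodule.span_induction with
    | mem y hy =>
      obtain ⟨l, hl, rfl⟩ := hy
      have hl' : qM p l.1 ≠ 0 := hl
      obtain ⟨i, hi⟩ := Multiset.exists_mem_of_ne_zero hl'
      obtain ⟨c, hc⟩ := Multiset.exists_cons_of_mem hi
      rw [hB']
      unfold Tel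
      rw [hc, zprod_cons, mul_assoc, ← mul_assoc a, ← xi_comm, mul_assoc]
      exact hA i _
    | zero => rw [mul_zero]; exact zero_mem _
    | add y z _ _ hy hz => rw [mul_add]; exact add_mem hy hz
    | smul c y _ hy => rw [mul_smul_comm]; exact Submodule.smul_mem _ _ hy
  -- Lemma D
  have hD : ∀ y : L, xi φ y ∈ I' := by
    intro y
    have hy : y = ∑ i ∈ (b.repr y).support, (b.repr y i) • b i := by
      conv_lhs => rw [← b.linearCombination_repr y]
      rw [Finsupp.linearCombination_apply, Finsupp.sum]
    rw [hy, xi_sum]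
    refine Submodule.sum_mem _ fun i _ => Submodule.smul_mem _ _ ?_
    have := hA i 1
    rwa [mul_one] at this
  -- `I ⊆ I'`
  have hle : ∀ a ∈ Ixi φ, a ∈ I' := by
    intro a ha
    unfold Ixi at ha
    induction ha using Submodule.span_induction with
    | mem y hy =>
      obtain ⟨z, rfl⟩ := hy
      exact hD z
    | zero => exact zero_mem _
    | add y z _ _ hy hz => exact add_mem hy hz
    | smul r y _ hy => rw [smul_eq_mul]; exact hC r y hy
  have hxI' := hle _ hx
  -- coordinates
  have hs : ∀ i : ι, [i].SortedLE := fun i =>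
    List.sortedLE_iff_pairwise.mpr (List.pairwise_singleton _ _)
  have hBi : ∀ i : ι, B' ⟨[i], hs i⟩ = UniversalEnvelopingAlgebra.ι k (b i) := by
    intro i
    rw [hB', Tel_of_qM_eq_zero b φ (qM_singleton i), rL_singleton]
    simp [mon]
  have hvanish : ∀ i : ι, ∀ v ∈ I', B'.coord ⟨[i], hs i⟩ v = 0 := by
    intro i v hv
    induction hv using Submodule.span_induction with
    | mem y hy =>
      obtain ⟨l, hl, rfl⟩ := hy
      rw [Module.Basis.coord_apply, Module.Basis.repr_self, Finsupp.single_apply, if_neg]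
      intro hli
      apply hl
      rw [hli]
      exact qM_singleton i
    | zero => rw [map_zero]
    | add y z _ _ hy hz => rw [map_add, hy, hz, add_zero]
    | smul c y _ hy => rw [map_smul, hy, smul_zero]
  have hx' : UniversalEnvelopingAlgebra.ι k x =
      ∑ j ∈ (b.repr x).support, (b.repr x j) • B' ⟨[j], hs j⟩ := by
    conv_lhs => rw [← b.linearCombination_repr x]
    rw [Finsupp.linearCombination_apply, Finsupp.sum, map_sum]
    refine Finset.sum_congr rfl fun j _ => ?_
    rw [map_smul, hBi]
  apply b.repr.map_eq_zero_iff.mp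
  ext i
  have h1 := hvanish i _ hxI'
  rw [hx', map_sum] at h1
  simp only [map_smul, Module.Basis.coord_apply, Module.Basis.repr_self, smul_eq_mul] at h1
  rw [Finset.sum_eq_single i] at h1
  · rw [Finsupp.single_eq_same, mul_one] at h1
    rw [h1]; rfl
  · intro j _ hji
    rw [Finsupp.single_apply, if_neg, mul_zero]
    intro h
    apply hji
    have := congrArg Subtype.val h
    simpa using this
  · intro hi
    rw [Finsupp.notMem_support_iff.mp hi, zero_mul]

theorem ιu_injective (b : Module.Basis ι k L) : Function.Injective (ιu φ) := by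
  rw [← LinearMap.ker_eq_bot, LinearMap.ker_eq_bot']
  intro x hx
  rw [ιu_apply, piU_eq_zero_iff] at hx
  exact eq_zero_of_ι_mem_Ixi φ b x hx

end Basis

end Groth.Agent.Lib.Helper84.RLie
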