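import Mathlib.LinearAlgebra.Basis.Defs
import Mathlib.LinearAlgebra.Basis.Basic
import Mathlib.LinearAlgebra.Span.Basic
import Mathlib.Tactic.Abel

/-!
# A unitriangular perturbation of a basis is a basis
-/

set_option linter.unusedSectionVars false
set_option linter.unusedVariables false
set_option linter.style.longLine false

universe u v w

namespace Groth.Agent.Lib.Helper84.RLie

section

variable {k : Type u} [Field k] {V : Type v} [AddCommGroup V] [Module k V] {J : Type w}

/-- If `T j = B j + (terms of lower degree)` for a basis `B` with a degree function, then `T` is a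
basis. -/
theorem exists_basis_of_triangular (B : Module.Basis J k V) (deg : J → ℕ) (T : J → V)
    (hT : ∀ j, T j - B j ∈ Submodule.span k (B '' {j' | deg j' < deg j})) :
    ∃ B' : Module.Basis J k V, ∀ j, B' j = T j := by
  classical
  set F : ℕ → Submodule k V := fun d => Submodule.span k (B '' {j | deg j < d}) with hF
  have hFmono : ∀ {d d' : ℕ}, d ≤ d' → F d ≤ F d' := by
    intro d d' h
    apply Submodule.span_mono
    apply Set.image_mono
    intro j hj
    exact lt_of_lt_of_le hj h
  have hF0 : F 0 = ⊥ := by
    simp only [hF]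
    have : {j : J | deg j < 0} = ∅ := by
      ext j; simp
    rw [this, Set.image_empty, Submodule.span_empty]
  set Θ : V →ₗ[k] V := B.constr k T with hΘ
  have hΘB : ∀ j, Θ (B j) = T j := fun j => B.constr_basis k T j
  -- `N = Θ - id` lowers the filtration
  have hN : ∀ d, ∀ v ∈ F (d + 1), Θ v - v ∈ F d := by
    intro d v hv
    induction hv using Submodule.span_induction with
    | mem x hx =>
      obtain ⟨j, hj, rfl⟩ := hx
      rw [hΘB]
      have hj' : deg j ≤ d := Nat.lt_succ_iff.mp hj
      exact hFmono hj' (hT j)
    | zero => simp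
    | add x y _ _ hx hy =>
      have : Θ (x + y) - (x + y) = (Θ x - x) + (Θ y - y) := by rw [map_add]; abel
      rw [this]; exact add_mem hx hy
    | smul c x _ hx =>
      have : Θ (c • x) - c • x = c • (Θ x - x) := by rw [map_smul, smul_sub]
      rw [this]; exact Submodule.smul_mem _ _ hx
  -- every vector lies in some `F d`
  have hex : ∀ v : V, ∃ d, v ∈ F d := by
    intro v
    have hv : v ∈ Submodule.span k (Set.range B) := by rw [B.span_eq]; trivial
    induction hv using Submodule.span_induction with
    | mem x hx =>
      obtain ⟨j, rfl⟩ := hx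
      exact ⟨deg j + 1, Submodule.subset_span ⟨j, Nat.lt_succ_self _, rfl⟩⟩
    | zero => exact ⟨0, zero_mem _⟩
    | add x y _ _ hx hy =>
      obtain ⟨d1, h1⟩ := hx
      obtain ⟨d2, h2⟩ := hy
      exact ⟨max d1 d2, add_mem (hFmono (le_max_left _ _) h1) (hFmono (le_max_right _ _) h2)⟩
    | smul c x _ hx =>
      obtain ⟨d, h⟩ := hx
      exact ⟨d, Submodule.smul_mem _ _ h⟩
  have hinj' : ∀ d, ∀ v ∈ F d, Θ v = 0 → v = 0 := by
    intro d
    induction d with
    | zero =>
      intro v hv _
      rw [hF0] at hv
      exact (Submodule.mem_bot k).mp hv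
    | succ d ih =>
      intro v hv h0
      have h1 := hN d v hv
      rw [h0, zero_sub] at h1
      have h2 : v ∈ F d := by
        have := neg_mem h1
        rwa [neg_neg] at this
      exact ih v h2 h0
  have hsurj' : ∀ d, F d ≤ LinearMap.range Θ := by
    intro d
    induction d with
    | zero => rw [hF0]; exact bot_le
    | succ d ih =>
      intro v hv
      have h1 := ih (hN d v hv)
      have h2 : Θ v ∈ LinearMap.range Θ := ⟨v, rfl⟩
      have := sub_mem h2 h1
      rwa [sub_sub_cancel] at this
  have hinj : Function.Injective Θ := by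
    rw [← LinearMap.ker_eq_bot, LinearMap.ker_eq_bot']
    intro v hv
    obtain ⟨d, hd⟩ := hex v
    exact hinj' d v hd hv
  have hsurj : Function.Surjective Θ := by
    intro v
    obtain ⟨d, hd⟩ := hex v
    exact hsurj' d hd
  refine ⟨B.map (LinearEquiv.ofBijective Θ ⟨hinj, hsurj⟩), fun j => ?_⟩
  rw [Module.Basis.map_apply, LinearEquiv.ofBijective_apply, hΘB]

end

end Groth.Agent.Lib.Helper84.RLie
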