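import Groth.Agent.Lib.Helper84.RLie.Xi
import Groth.Agent.Lib.Helper84.RLie.TriBasis
import Groth.Agent.Lib.Helper84.RLie.DivMod
import Groth.Agent.S3312

/-!
# The basis `z^c e^b` of the universal enveloping algebra of a restricted Lie algebra
-/

set_option linter.unusedSectionVars false
set_option linter.unusedVariables false
set_option linter.style.longLine false

universe u v w

namespace Groth.Agent.Lib.Helper84.RLie

attribute [local instance 100] LieRing.ofAssociativeRing

open Groth.Agent.Lib.Helper85.PBW (mon mon_cons mon_nil mon_append Mlt mon_mem_Mlt eps_mul_mem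
  iota_mul_mem mon_sub_mon_mem_of_perm SL)

section Mlt

variable {k : Type u} [CommRing k] {L : Type v} [LieRing L] [LieAlgebra k L]
  {ι : Type w} [LinearOrder ι] (b : Module.Basis ι k L)

theorem Mlt_mono {m n : ℕ} (h : m ≤ n) : Mlt b m ≤ Mlt b n := by
  apply Submodule.span_mono
  apply Set.image_mono
  intro l hl
  exact lt_of_lt_of_le hl h

theorem mon_replicate (i : ι) (n : ℕ) :
    mon b (List.replicate n i) = UniversalEnvelopingAlgebra.ι k (b i) ^ n := by
  simp [mon]

theorem eps_pow_mul_mem (i : ι) (m : ℕ) {n : ℕ} {u : UniversalEnvelopingAlgebra k L}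
    (hu : u ∈ Mlt b n) : UniversalEnvelopingAlgebra.ι k (b i) ^ m * u ∈ Mlt b (n + m) := by
  induction m with
  | zero => simpa using hu
  | succ m ih =>
    rw [pow_succ', mul_assoc]
    exact eps_mul_mem b i ih

/-- Degree-controlled PBW spanning. -/
theorem Mlt_le_span_sorted : ∀ n : ℕ, Mlt b n ≤
    Submodule.span k ((fun l : SL ι => mon b l.1) '' {l | l.1.length < n}) := by
  intro n
  induction n using Nat.strong_induction_on with
  | _ n ih =>
    refine Submodule.span_le.mpr ?_
    rintro _ ⟨l, hl, rfl⟩
    have hl' : l.length < n := hl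
    have hs : mon b (l.insertionSort (· ≤ ·)) ∈
        Submodule.span k ((fun l : SL ι => mon b l.1) '' {l | l.1.length < n}) := by
      refine Submodule.subset_span
        ⟨⟨l.insertionSort (· ≤ ·), List.sortedLE_insertionSort⟩, ?_, rfl⟩
      change (l.insertionSort (· ≤ ·)).length < n
      rw [List.length_insertionSort]
      exact hl'
    have hd := mon_sub_mon_mem_of_perm b (List.perm_insertionSort (· ≤ ·) l).symm
    have hd' := ih l.length hl' hd
    have hmono : Submodule.span k ((fun l : SL ι => mon b l.1) '' {l' | l'.1.length < l.length}) ≤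
        Submodule.span k ((fun l : SL ι => mon b l.1) '' {l | l.1.length < n}) := by
      apply Submodule.span_mono
      apply Set.image_mono
      intro l'' hl''
      exact lt_trans hl'' hl'
    have := add_mem (hmono hd') hs
    rwa [sub_add_cancel] at this

end Mlt

section Z

variable {k : Type u} [Field k] {p : ℕ} [hp : Fact p.Prime] [CharP k p]
  {L : Type v} [LieRing L] [LieAlgebra k L] {ι : Type w} [LinearOrder ι]
  (b : Module.Basis ι k L) (φ : PLie.PMap k p L)

/-- The central elements `z_i = ξ(b_i)`, in the centre. -/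
noncomputable def zc (i : ι) : Subalgebra.center k (UniversalEnvelopingAlgebra k L) :=
  ⟨xi φ (b i), Subalgebra.mem_center_iff.mpr fun u => (xi_comm φ (b i) u).symm⟩

/-- The product of the `z_i` over a multiset of indices. -/
noncomputable def zprod (c : Multiset ι) : UniversalEnvelopingAlgebra k L :=
  (((c.map (zc b φ)).prod : Subalgebra.center k (UniversalEnvelopingAlgebra k L)) :
    UniversalEnvelopingAlgebra k L)

theorem zprod_zero : zprod b φ (0 : Multiset ι) = 1 := by
  simp [zprod]

theorem zprod_cons (i : ι) (c : Multiset ι) :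
    zprod b φ (i ::ₘ c) = xi φ (b i) * zprod b φ c := by
  simp [zprod, zc]

theorem zprod_comm (c : Multiset ι) (u : UniversalEnvelopingAlgebra k L) :
    zprod b φ c * u = u * zprod b φ c := by
  have h := ((c.map (zc b φ)).prod : Subalgebra.center k (UniversalEnvelopingAlgebra k L)).2
  rw [Subalgebra.mem_center_iff] at h
  exact (h u).symm

theorem xi_mul_mem (i : ι) {n : ℕ} {u : UniversalEnvelopingAlgebra k L} (hu : u ∈ Mlt b n) :
    xi φ (b i) * u ∈ Mlt b (n + p) := by
  unfold xi
  rw [sub_mul]
  refine sub_mem (eps_pow_mul_mem b i p hu) ?_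
  exact Mlt_mono b (Nat.add_le_add_left hp.out.one_le n) (iota_mul_mem b (φ (b i)) hu)

/-- The triangularity estimate. -/
theorem zprod_mul_mon_sub_mon_mem (c : Multiset ι) : ∀ (m l : List ι),
    (l : Multiset ι) = p • c + (m : Multiset ι) →
    zprod b φ c * mon b m - mon b l ∈ Mlt b l.length := by
  induction c using Multiset.induction_on with
  | empty =>
    intro m l h
    rw [smul_zero, zero_add] at h
    have hperm : m.Perm l := (Multiset.coe_eq_coe.mp h).symm
    rw [zprod_zero, one_mul, ← hperm.length_eq]
    exact mon_sub_mon_mem_of_perm b hperm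
  | cons i c ih =>
    intro m l h
    set l'' : List ι := (p • c + (m : Multiset ι)).toList with hl''
    have hl''c : (l'' : Multiset ι) = p • c + (m : Multiset ι) := Multiset.coe_toList _
    have hperm : (List.replicate p i ++ l'').Perm l := by
      apply Multiset.coe_eq_coe.mp
      rw [h, ← Multiset.coe_add, hl''c, Multiset.coe_replicate, ← Multiset.nsmul_singleton,
        ← Multiset.singleton_add, smul_add, add_assoc]
    have hlen : l.length = l''.length + p := by
      rw [← hperm.length_eq, List.length_append, List.length_replicate, add_comm]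
    have h1 := ih m l'' hl''c
    have e : zprod b φ (i ::ₘ c) * mon b m - mon b l =
        xi φ (b i) * (zprod b φ c * mon b m - mon b l'') +
        (xi φ (b i) * mon b l'' - mon b (List.replicate p i ++ l'')) +
        (mon b (List.replicate p i ++ l'') - mon b l) := by
      rw [zprod_cons, mul_assoc, mul_sub]
      abel
    rw [e, hlen]
    refine add_mem (add_mem ?_ ?_) ?_
    · exact xi_mul_mem b φ i h1
    · rw [mon_append, mon_replicate]
      unfold xi
      rw [sub_mul, sub_sub_cancel_left]
      refine neg_mem ?_
      have h2 : mon b l'' ∈ Mlt b (l''.length + 1) := mon_mem_Mlt b (Nat.lt_succ_self _)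
      have h3 := iota_mul_mem b (φ (b i)) h2
      refine Mlt_mono b ?_ h3
      have := hp.out.two_le
      omega
    · have := mon_sub_mon_mem_of_perm b hperm
      rw [List.length_append, List.length_replicate, add_comm] at this
      exact this

/-- The elements `T(l) = z^{q(l)} e^{r(l)}`. -/
noncomputable def Tel (l : List ι) : UniversalEnvelopingAlgebra k L :=
  zprod b φ (qM p l) * mon b (rL p l)

theorem Tel_sub_mon_mem (l : List ι) : Tel b φ l - mon b l ∈ Mlt b l.length := by
  apply zprod_mul_mon_sub_mon_mem
  rw [coe_rL]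
  exact coe_eq_nsmul_qM_add_rM p l

/-- The basis `T(l)`, `l` a sorted list. -/
theorem exists_basis_Tel :
    ∃ B' : Module.Basis (SL ι) k (UniversalEnvelopingAlgebra k L), ∀ l, B' l = Tel b φ l.1 := by
  obtain ⟨B, hB⟩ := Groth.Agent.S3312.result k L ι b
  have hB' : ∀ l : SL ι, B l = mon b l.1 := hB
  apply exists_basis_of_triangular B (fun l => l.1.length) (fun l => Tel b φ l.1)
  intro l
  have h1 := Mlt_le_span_sorted b l.1.length (Tel_sub_mon_mem b φ l.1)
  rw [hB' l]
  have : (fun l : SL ι => mon b l.1) = B := by
    funext l'; exact (hB' l').symm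
  rw [this] at h1
  exact h1

/-- Multiplying by `z_i` permutes the `T(l)`. -/
theorem xi_mul_Tel (i : ι) (l : List ι) :
    ∃ l' : SL ι, qM p l'.1 ≠ 0 ∧ xi φ (b i) * Tel b φ l = Tel b φ l'.1 := by
  classical
  set l' : List ι := ((List.replicate p i ++ l : List ι) : Multiset ι).sort with hl'
  have hl's : l'.SortedLE := List.sortedLE_iff_pairwise.mpr (Multiset.pairwise_sort _ _)
  have hcount : ∀ j, l'.count j = (if i = j then p else 0) + l.count j := by
    intro j
    rw [← Multiset.coe_count, hl', Multiset.sort_eq, Multiset.coe_count, List.count_append,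
      List.count_replicate]
    simp only [beq_iff_eq]
  have hq : qM p l' = i ::ₘ qM p l := by
    ext j
    rw [count_qM, Multiset.count_cons, count_qM, hcount]
    by_cases hij : i = j
    · subst hij
      rw [if_pos rfl, if_pos rfl, add_comm, Nat.add_div_right _ hp.out.pos]
    · rw [if_neg hij, if_neg (fun h => hij h.symm), zero_add, add_zero]
  have hr : rM p l' = rM p l := by
    ext j
    rw [count_rM, count_rM, hcount]
    by_cases hij : i = j
    · rw [if_pos hij, add_comm, Nat.add_mod_right]
    · rw [if_neg hij, zero_add]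
  refine ⟨⟨l', hl's⟩, ?_, ?_⟩
  · change qM p l' ≠ 0
    rw [hq]
    exact Multiset.cons_ne_zero
  · change _ = Tel b φ l'
    unfold Tel
    rw [hq, rL_eq_of_rM_eq p hr, zprod_cons, mul_assoc]

/-- `T(l)` lies in any left ideal containing the `z_i`, as soon as `q(l) ≠ 0`. -/
theorem Tel_mem_of_qM_ne_zero (I : Ideal (UniversalEnvelopingAlgebra k L))
    (hI : ∀ i, xi φ (b i) ∈ I) {l : List ι} (hl : qM p l ≠ 0) : Tel b φ l ∈ I := by
  obtain ⟨i, hi⟩ := Multiset.exists_mem_of_ne_zero hl
  obtain ⟨c, hc⟩ := Multiset.exists_cons_of_mem hi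
  unfold Tel
  rw [hc, zprod_cons, mul_assoc, xi_comm]
  exact Ideal.mul_mem_left I _ (hI i)

theorem Tel_of_qM_eq_zero {l : List ι} (hl : qM p l = 0) : Tel b φ l = mon b (rL p l) := by
  unfold Tel
  rw [hl, zprod_zero, one_mul]

end Z

end Groth.Agent.Lib.Helper84.RLie
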