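import Groth.Agent.Lib.Helper84.RLie.RestrEnv

/-!
# The restricted PBW basis of `u(L)`

The images of the restricted sorted monomials form a basis of `u(L) = U(L)/(x^p - x^[p])`.
-/

set_option linter.unusedSectionVars false
set_option linter.unusedVariables false
set_option linter.style.longLine false

universe u v w

namespace Groth.Agent.Lib.Helper84.RLie

attribute [local instance 100] LieRing.ofAssociativeRing

open Groth.Agent.Lib.Helper85.PBW (mon mon_cons mon_nil mon_append Mlt SL)

section UBasis

variable {k : Type u} [Field k] {p : ℕ} [hp : Fact p.Prime] [CharP k p]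
  {L : Type v} [LieRing L] [LieAlgebra k L] (φ : PLie.PMap k p L)
  {ι : Type w} [LinearOrder ι] (b : Module.Basis ι k L)

/-- The ideal `(ξ x)` is contained in the span of the `T(l)` with `q(l) ≠ 0`. -/
theorem Ixi_le_span (b : Module.Basis ι k L)
    (B' : Module.Basis (SL ι) k (UniversalEnvelopingAlgebra k L))
    (hB' : ∀ l, B' l = Tel b φ l.1) :
    ∀ a ∈ Ixi φ, a ∈ Submodule.span k (B' '' {l | qM p l.1 ≠ 0}) := by
  classical
  set I' : Submodule k (UniversalEnvelopingAlgebra k L) :=
    Submodule.span k (B' '' {l | qM p l.1 ≠ 0}) with hI'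
  -- Lemma A
  have hA : ∀ (i : ι) (w : UniversalEnvelopingAlgebra k L), xi φ (b i) * w ∈ I' := by
    intro i w
    have hw : w ∈ Submodule.span k (Set.range B') := by rw [B'.span_eq]; trivial
    induction hw using Submodule.span_induction with
    | mem y hy =>
      obtain ⟨l, rfl⟩ := hy
      rw [hB']
      obtain ⟨l', hl', he⟩ := xi_mul_Tel b φ i l.1
      rw [he, ← hB']
      exact Submodule.subset_span ⟨l', hl', rfl⟩
    | zero => rw [mul_zero]; exact zero_mem _
    | add y z _ _ hy hz => rw [mul_add]; exact add_mem hy hz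
    | smul c y _ hy => rw [mul_smul_comm]; exact Submodule.smul_mem _ _ hy
  -- Lemma C
  have hC : ∀ (a v : UniversalEnvelopingAlgebra k L), v ∈ I' → a * v ∈ I' := by
    intro a v hv
    induction hv using Submodule.span_induction with
    | mem y hy =>
      obtain ⟨l, hl, rfl⟩ := hy
      have hl' : qM p l.1 ≠ 0 := hl
      obtain ⟨i, hi⟩ := Multiset.exists_mem_of_ne_zero hl'
      obtain ⟨c, hc⟩ := Multiset.exists_cons_of_mem hi
      rw [hB']
      unfold Tel
      rw [hc, zprod_cons, mul_assoc, ← mul_assoc a, ← xi_comm, mul_assoc]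
      exact hA i _
    | zero => rw [mul_zero]; exact zero_mem _
    | add y z _ _ hy hz => rw [mul_add]; exact add_mem hy hz
    | smul c y _ hy => rw [mul_smul_comm]; exact Submodule.smul_mem _ _ hy
  -- Lemma D
  have hD : ∀ y : L, xi φ y ∈ I' := by
    intro y
    have hy : y = ∑ i ∈ (b.repr y).support, (b.repr y i) • b i := by
      conv_lhs => rw [← b.linearCombination_repr y]
      rw [Finsupp.linearCombination_apply, Finsupp.sum]
    rw [hy, xi_sum]
    refine Submodule.sum_mem _ fun i _ => Submodule.smul_mem _ _ ?_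
    have := hA i 1
    rwa [mul_one] at this
  intro a ha
  unfold Ixi at ha
  induction ha using Submodule.span_induction with
  | mem y hy =>
    obtain ⟨z, rfl⟩ := hy
    exact hD z
  | zero => exact zero_mem _
  | add y z _ _ hy hz => exact add_mem hy hz
  | smul r y _ hy => rw [smul_eq_mul]; exact hC r y hy

theorem rL_eq_self {l : List ι} (hl : l ∈ Srestr p ι) : rL p l = l :=
  eq_of_sorted_of_count_eq (rL_sorted p l) hl.1
    (fun i => by rw [count_rL]; exact Nat.mod_eq_of_lt (hl.2 i))

theorem qM_eq_zero_of_mem {l : List ι} (hl : l ∈ Srestr p ι) : qM p l = 0 := by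
  rw [qM_eq_zero_iff]
  intro i
  exact Nat.div_eq_of_lt (hl.2 i)

theorem Tel_of_mem_Srestr (b : Module.Basis ι k L) {l : List ι} (hl : l ∈ Srestr p ι) :
    Tel b φ l = mon b l := by
  rw [Tel_of_qM_eq_zero b φ (qM_eq_zero_of_mem hl), rL_eq_self hl]

/-- The images of the restricted monomials are linearly independent in `u(L)`. -/
theorem linearIndependent_umon (b : Module.Basis ι k L) :
    LinearIndependent k (fun l : {l : List ι // l ∈ Srestr p ι} => piU φ (mon b l.1)) := by
  classical
  obtain ⟨B', hB'⟩ := exists_basis_Tel b φ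
  rw [linearIndependent_iff']
  intro s g hg l₀ hl₀
  set w : UniversalEnvelopingAlgebra k L := ∑ l ∈ s, g l • B' ⟨l.1, l.2.1⟩ with hw
  have hwI : w ∈ Ixi φ := by
    rw [← piU_eq_zero_iff, hw, map_sum, ← hg]
    refine Finset.sum_congr rfl fun l _ => ?_
    rw [map_smul, hB', Tel_of_mem_Srestr φ b l.2]
  have h1 := Ixi_le_span φ b B' hB' w hwI
  rw [Module.Basis.mem_span_image] at h1
  by_contra hne
  have hrepr : B'.repr w ⟨l₀.1, l₀.2.1⟩ = g l₀ := by
    rw [hw, map_sum, Finsupp.finsetSum_apply, Finset.sum_eq_single l₀]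
    · rw [map_smul, B'.repr_self, Finsupp.smul_apply, Finsupp.single_eq_same, smul_eq_mul,
        mul_one]
    · intro l _ hl
      rw [map_smul, B'.repr_self, Finsupp.smul_apply, Finsupp.single_apply, if_neg, smul_zero]
      intro h
      apply hl
      apply Subtype.ext
      exact congrArg (fun z : SL ι => z.1) h
    · intro h
      exact absurd hl₀ h
  have hmem : (⟨l₀.1, l₀.2.1⟩ : SL ι) ∈ (B'.repr w).support := by
    rw [Finsupp.mem_support_iff, hrepr]
    exact hne
  exact h1 hmem (qM_eq_zero_of_mem l₀.2)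

/-- The restricted PBW basis of `u(L)`. -/
theorem exists_basis_uL (b : Module.Basis ι k L) :
    ∃ B : Module.Basis {l : List ι // l ∈ Srestr p ι} k (uL φ),
      ∀ l, B l = piU φ (mon b l.1) := by
  have hsp : ⊤ ≤ Submodule.span k
      (Set.range (fun l : {l : List ι // l ∈ Srestr p ι} => piU φ (mon b l.1))) := by
    refine (span_restricted_eq_top φ b).trans (Submodule.span_mono ?_)
    rintro _ ⟨l, hl, rfl⟩
    exact ⟨⟨l, hl⟩, rfl⟩
  exact ⟨Module.Basis.mk (linearIndependent_umon φ b) hsp,
    fun l => Module.Basis.mk_apply _ _ l⟩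

end UBasis

end Groth.Agent.Lib.Helper84.RLie
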