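import Groth.Agent.Lib.Helper84.RLie.RestrEnv
import Groth.Agent.Lib.Helper84.RLie.AntipodeGen
import Groth.Agent.Lib.Helper84.CMM.UCoalg

/-!
# The Hopf algebra structure on the restricted enveloping algebra `u(L)`

Universal property of `u(L)`, comultiplication, counit, antipode; `u(L)` is a cocommutative Hopf
algebra in which the elements of `L` are primitive.
-/

set_option linter.unusedSectionVars false
set_option linter.unusedVariables false
set_option linter.style.longLine false

universe u v w

open TensorProduct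

namespace Groth.Agent.Lib.Helper84.RLie

attribute [local instance 100] LieRing.ofAssociativeRing

section CharPow

variable {k : Type u} [Field k] {p : ℕ} [hp : Fact p.Prime] [CharP k p]

theorem add_pow_char_alg (k : Type u) [Field k] {p : ℕ} [hp : Fact p.Prime] [CharP k p]
    {A : Type v} [Ring A] [Algebra k A] (x y : A) (h : Commute x y) :
    (x + y) ^ p = x ^ p + y ^ p := by
  rcases subsingleton_or_nontrivial A with hA | hA
  · exact Subsingleton.elim _ _
  · have : CharP A p := charP_of_injective_algebraMap (algebraMap k A).injective p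
    exact add_pow_char_of_commute p h

theorem neg_pow_char_alg (k : Type u) [Field k] {p : ℕ} [hp : Fact p.Prime] [CharP k p]
    {A : Type v} [Ring A] [Algebra k A] (x : A) : (-x) ^ p = -(x ^ p) := by
  rcases subsingleton_or_nontrivial A with hA | hA
  · exact Subsingleton.elim _ _
  · have : CharP A p := charP_of_injective_algebraMap (algebraMap k A).injective p
    rw [neg_pow, neg_one_pow_char A p, neg_one_mul]

end CharPow

section Univ

variable {k : Type u} [Field k] {p : ℕ} [hp : Fact p.Prime] [CharP k p]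
  {L : Type v} [LieRing L] [LieAlgebra k L] (φ : PLie.PMap k p L)

/-- A subalgebra of `u(L)` containing the image of `L` is everything. -/
theorem uL_mem_of_ιu_mem (S : Subalgebra k (uL φ)) (h : ∀ x : L, ιu φ x ∈ S) (u : uL φ) :
    u ∈ S := by
  obtain ⟨a, rfl⟩ := piU_surjective φ u
  exact mem_of_ι_mem (S.comap (piU φ)) (fun z => h z) a

theorem adjoin_range_ιu : Algebra.adjoin k (Set.range (ιu φ)) = ⊤ := by
  rw [eq_top_iff]
  rintro u -
  exact uL_mem_of_ιu_mem φ _ (fun x => Algebra.subset_adjoin (Set.mem_range_self x)) u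

theorem uL_algHom_ext {B : Type w} [Semiring B] [Algebra k B] (f g : uL φ →ₐ[k] B)
    (h : ∀ x : L, f (ιu φ x) = g (ιu φ x)) : f = g := by
  apply AlgHom.ext
  intro u
  exact uL_mem_of_ιu_mem φ (AlgHom.equalizer f g) h u

variable {B : Type w} [Ring B] [Algebra k B]

/-- Universal property of the restricted enveloping algebra. -/
noncomputable def liftu (f : L →ₗ⁅k⁆ B) (hf : ∀ x, f (φ x) = f x ^ p) : uL φ →ₐ[k] B :=
  Ideal.Quotient.liftₐ (Ixi φ) (UniversalEnvelopingAlgebra.lift k f) (by
    have hle : Ixi φ ≤ RingHom.ker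
        ((UniversalEnvelopingAlgebra.lift k f : UniversalEnvelopingAlgebra k L →ₐ[k] B) :
          UniversalEnvelopingAlgebra k L →+* B) := by
      unfold Ixi
      rw [Ideal.span_le]
      rintro _ ⟨x, rfl⟩
      change (UniversalEnvelopingAlgebra.lift k f) (xi φ x) = 0
      unfold xi
      rw [map_sub, map_pow, UniversalEnvelopingAlgebra.lift_ι_apply,
        UniversalEnvelopingAlgebra.lift_ι_apply, hf, sub_self]
    intro a ha
    exact hle ha)

theorem liftu_ιu (f : L →ₗ⁅k⁆ B) (hf : ∀ x, f (φ x) = f x ^ p) (x : L) :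
    liftu φ f hf (ιu φ x) = f x := by
  change (UniversalEnvelopingAlgebra.lift k f) (UniversalEnvelopingAlgebra.ι k x) = f x
  exact UniversalEnvelopingAlgebra.lift_ι_apply k f x

end Univ

section Hopf

variable {k : Type u} [Field k] {p : ℕ} [hp : Fact p.Prime] [CharP k p]
  {L : Type v} [LieRing L] [LieAlgebra k L] (φ : PLie.PMap k p L)

/-- `x ↦ x ⊗ 1 + 1 ⊗ x` as a Lie map `L → u(L) ⊗ u(L)`. -/
noncomputable def deltauLie : L →ₗ⁅k⁆ (uL φ ⊗[k] uL φ) :=
  { toFun := fun x => ιu φ x ⊗ₜ[k] (1 : uL φ) + (1 : uL φ) ⊗ₜ[k] ιu φ x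
    map_add' := by
      intro x y
      rw [map_add, TensorProduct.add_tmul, TensorProduct.tmul_add]
      abel
    map_smul' := by
      intro c x
      rw [map_smul, RingHom.id_apply, smul_add, TensorProduct.smul_tmul', TensorProduct.tmul_smul]
    map_lie' := by
      intro x y
      simp only [ιu_lie, LieRing.of_associative_ring_bracket, add_mul, mul_add,
        Algebra.TensorProduct.tmul_mul_tmul, one_mul, mul_one, TensorProduct.sub_tmul,
        TensorProduct.tmul_sub]
      abel }

theorem deltauLie_apply (x : L) :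
    deltauLie φ x = ιu φ x ⊗ₜ[k] (1 : uL φ) + (1 : uL φ) ⊗ₜ[k] ιu φ x := rfl

theorem deltauLie_pmap (x : L) : deltauLie φ (φ x) = deltauLie φ x ^ p := by
  rw [deltauLie_apply, deltauLie_apply, add_pow_char_alg k, Algebra.TensorProduct.tmul_pow,
    Algebra.TensorProduct.tmul_pow, one_pow, ιu_pmap]
  change Commute _ _
  rw [Commute, SemiconjBy, Algebra.TensorProduct.tmul_mul_tmul, Algebra.TensorProduct.tmul_mul_tmul,
    one_mul, mul_one]

/-- The comultiplication of `u(L)`. -/
noncomputable def deltau : uL φ →ₐ[k] uL φ ⊗[k] uL φ :=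
  liftu φ (deltauLie φ) (deltauLie_pmap φ)

theorem deltau_ιu (x : L) :
    deltau φ (ιu φ x) = ιu φ x ⊗ₜ[k] (1 : uL φ) + (1 : uL φ) ⊗ₜ[k] ιu φ x :=
  liftu_ιu φ _ _ x

/-- The counit of `u(L)`. -/
noncomputable def epsu : uL φ →ₐ[k] k :=
  liftu φ (0 : L →ₗ⁅k⁆ k) (by
    intro x
    rw [LieHom.zero_apply, LieHom.zero_apply, zero_pow hp.out.ne_zero])

theorem epsu_ιu (x : L) : epsu φ (ιu φ x) = 0 :=
  liftu_ιu φ _ _ x

/-- The bialgebra structure of `u(L)`. -/
noncomputable instance instBialgebraUL : Bialgebra k (uL φ) :=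
  Bialgebra.ofAlgHom (deltau φ) (epsu φ)
    (by
      apply uL_algHom_ext
      intro x
      simp only [AlgHom.comp_apply, AlgEquiv.toAlgHom_apply, deltau_ιu, map_add,
        Algebra.TensorProduct.map_tmul, map_one, AlgHom.id_apply, Algebra.TensorProduct.one_def,
        TensorProduct.add_tmul, TensorProduct.tmul_add, Algebra.TensorProduct.assoc_tmul]
      abel)
    (by
      apply uL_algHom_ext
      intro x
      simp only [AlgHom.comp_apply, deltau_ιu, map_add, Algebra.TensorProduct.map_tmul, map_one,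
        AlgHom.id_apply, epsu_ιu, TensorProduct.zero_tmul, zero_add, AlgEquiv.toAlgHom_apply,
        Algebra.TensorProduct.lid_symm_apply])
    (by
      apply uL_algHom_ext
      intro x
      simp only [AlgHom.comp_apply, deltau_ιu, map_add, Algebra.TensorProduct.map_tmul, map_one,
        AlgHom.id_apply, epsu_ιu, TensorProduct.tmul_zero, add_zero, AlgEquiv.toAlgHom_apply,
        Algebra.TensorProduct.rid_symm_apply])

theorem comul_uL_eq : (Coalgebra.comul : uL φ →ₗ[k] uL φ ⊗[k] uL φ) = (deltau φ).toLinearMap := rfl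

theorem counit_uL_eq : (Coalgebra.counit : uL φ →ₗ[k] k) = (epsu φ).toLinearMap := rfl

theorem comul_ιu (x : L) :
    Coalgebra.comul (R := k) (ιu φ x) = ιu φ x ⊗ₜ[k] (1 : uL φ) + (1 : uL φ) ⊗ₜ[k] ιu φ x :=
  deltau_ιu φ x

theorem counit_ιu (x : L) : Coalgebra.counit (R := k) (ιu φ x) = 0 := epsu_ιu φ x

instance instIsCocommUL : Coalgebra.IsCocomm k (uL φ) where
  comm_comp_comul := by
    have h : ((Algebra.TensorProduct.comm k (uL φ) (uL φ)) : uL φ ⊗[k] uL φ →ₐ[k] uL φ ⊗[k] uL φ).comp
        (deltau φ) = deltau φ := by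
      apply uL_algHom_ext
      intro x
      simp only [AlgHom.comp_apply, deltau_ιu, map_add, AlgEquiv.toAlgHom_apply,
        Algebra.TensorProduct.comm_tmul]
      abel
    apply LinearMap.ext
    intro u
    exact DFunLike.congr_fun h u

/-- `x ↦ op (-x)` as a Lie map `L → u(L)ᵐᵒᵖ`. -/
noncomputable def antiLie : L →ₗ⁅k⁆ (uL φ)ᵐᵒᵖ :=
  { toFun := fun x => MulOpposite.op (-(ιu φ x))
    map_add' := by
      intro x y
      rw [map_add, neg_add, MulOpposite.op_add]
    map_smul' := by
      intro c x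
      rw [map_smul, RingHom.id_apply, ← smul_neg, MulOpposite.op_smul]
    map_lie' := by
      intro x y
      rw [LieRing.of_associative_ring_bracket, ← MulOpposite.op_mul, ← MulOpposite.op_mul,
        ← MulOpposite.op_sub, ιu_lie]
      apply congrArg
      noncomm_ring }

theorem antiLie_apply (x : L) : antiLie φ x = MulOpposite.op (-(ιu φ x)) := rfl

theorem antiLie_pmap (x : L) : antiLie φ (φ x) = antiLie φ x ^ p := by
  rw [antiLie_apply, antiLie_apply, ← MulOpposite.op_pow, neg_pow_char_alg k, ιu_pmap]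

/-- The antipode as an algebra map into the opposite algebra. -/
noncomputable def Sop : uL φ →ₐ[k] (uL φ)ᵐᵒᵖ := liftu φ (antiLie φ) (antiLie_pmap φ)

/-- The antipode of `u(L)`. -/
noncomputable def Su : uL φ →ₗ[k] uL φ :=
  (MulOpposite.opLinearEquiv k).symm.toLinearMap ∘ₗ (Sop φ).toLinearMap

theorem Su_apply (u : uL φ) : Su φ u = MulOpposite.unop (Sop φ u) := rfl

theorem Su_mul (a b : uL φ) : Su φ (a * b) = Su φ b * Su φ a := by
  rw [Su_apply, Su_apply, Su_apply, map_mul, MulOpposite.unop_mul]

theorem Su_one : Su φ 1 = 1 := by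
  rw [Su_apply, map_one, MulOpposite.unop_one]

theorem Su_ιu (x : L) : Su φ (ιu φ x) = -ιu φ x := by
  rw [Su_apply, Sop, liftu_ιu, antiLie_apply, MulOpposite.unop_op]

/-- The Hopf algebra structure of `u(L)`. -/
noncomputable instance instHopfAlgebraUL : HopfAlgebra k (uL φ) where
  antipode := Su φ
  mul_antipode_rTensor_comul :=
    antipode_rTensor_of_gen (Su φ) (Su_mul φ) (Su_one φ) (Set.range (ιu φ)) (adjoin_range_ιu φ) (by
      rintro _ ⟨x, rfl⟩
      rw [comul_ιu, counit_ιu, map_add, map_add, LinearMap.rTensor_tmul, LinearMap.rTensor_tmul,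
        LinearMap.mul'_apply, LinearMap.mul'_apply, Su_ιu, Su_one, map_zero, mul_one, one_mul,
        neg_add_cancel])
  mul_antipode_lTensor_comul :=
    antipode_lTensor_of_gen (Su φ) (Su_mul φ) (Su_one φ) (Set.range (ιu φ)) (adjoin_range_ιu φ) (by
      rintro _ ⟨x, rfl⟩
      rw [comul_ιu, counit_ιu, map_add, map_add, LinearMap.lTensor_tmul, LinearMap.lTensor_tmul,
        LinearMap.mul'_apply, LinearMap.mul'_apply, Su_ιu, Su_one, map_zero, mul_one, one_mul,
        add_neg_cancel])

theorem antipode_uL_eq : HopfAlgebra.antipode k (A := uL φ) = Su φ := rfl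

end Hopf

end Groth.Agent.Lib.Helper84.RLie
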