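import Groth.Prelude.Def_CartDual
import Groth.Agent.Lib.Helper84.RLie.UHopf
import Groth.Agent.Lib.Helper84.RLie.UBasis
import Groth.Agent.Lib.Helper84.RLie.PrimBasis
import Mathlib.RingTheory.Derivation.Lie

/-!
# The dual of the restricted enveloping algebra

Primitive elements of `u(L)` are exactly `L`; right translations `R_z` on the dual Hopf algebra
`u(L)^*`; `R_x` for `x ∈ L` are left-invariant derivations.
-/

set_option linter.unusedSectionVars false
set_option linter.unusedVariables false
set_option linter.style.longLine false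

universe u v w

open TensorProduct

namespace Groth.Agent.Lib.Helper84.RLie

attribute [local instance 100] LieRing.ofAssociativeRing

open Groth.Agent.Lib.Helper85.PBW (mon mon_cons mon_nil mon_append Mlt SL)

section Prim

variable {k : Type u} [Field k] {p : ℕ} [hp : Fact p.Prime] [CharP k p]
  {L : Type v} [LieRing L] [LieAlgebra k L] (φ : PLie.PMap k p L)

theorem piU_mon {ι : Type w} (b : Module.Basis ι k L) (l : List ι) :
    piU φ (mon b l) = gmon (fun i => ιu φ (b i)) l := by
  unfold mon gmon
  rw [map_list_prod, List.map_map]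
  rfl

/-- Primitive elements of `u(L)` lie in `L`. -/
theorem mem_range_ιu_of_prim {ι : Type w} [LinearOrder ι] (b : Module.Basis ι k L) (z : uL φ)
    (hz : Coalgebra.comul (R := k) z = z ⊗ₜ[k] (1 : uL φ) + (1 : uL φ) ⊗ₜ[k] z) :
    z ∈ LinearMap.range (ιu φ) := by
  obtain ⟨B, hB⟩ := exists_basis_uL φ b
  have hcount : ∀ l ∈ Srestr p ι, ∀ a ∈ l, ((l.count a : ℕ) : k) ≠ 0 := by
    intro l hl a ha h0
    rw [CharP.cast_eq_zero_iff k p] at h0
    have h1 : 0 < l.count a := List.count_pos_iff.mpr ha
    exact Nat.not_dvd_of_pos_of_lt h1 (hl.2 a) h0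
  have h := mem_span_of_prim (k := k) (fun i => ιu φ (b i)) (deltau φ)
    (fun i => deltau_ιu φ (b i)) (Srestr p ι) (fun l hl => hl.1)
    (fun l hl s hs => ⟨List.sortedLE_iff_pairwise.mpr
        ((List.sortedLE_iff_pairwise.mp hl.1).sublist hs),
      fun i => lt_of_le_of_lt (hs.count_le i) (hl.2 i)⟩)
    ⟨List.sortedLE_iff_pairwise.mpr List.Pairwise.nil, fun i => by
      rw [List.count_nil]; exact hp.out.pos⟩
    hcount B (fun l => by rw [hB, piU_mon]) z hz
  refine Submodule.span_le.mpr ?_ h
  rintro _ ⟨i, rfl⟩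
  exact ⟨b i, rfl⟩

theorem finite_uL_of_finite [Module.Finite k L] : Module.Finite k (uL φ) :=
  finite_uL φ (Module.finBasis k L)

end Prim

section Dual

variable {k : Type u} [Field k] {p : ℕ} [hp : Fact p.Prime] [CharP k p]
  {L : Type v} [LieRing L] [LieAlgebra k L] (φ : PLie.PMap k p L)

/-- The dual Hopf algebra of `u(L)` (as a type). -/
abbrev AD : Type (max u v) := CartDual.D k (uL φ)

/-- Right translation by `z` on the dual: `(R_z f)(u) = f (u z)`. -/
noncomputable def Rt (z : uL φ) : AD φ →ₗ[k] AD φ :=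
  (CartDual.toDual k (uL φ)).symm.toLinearMap ∘ₗ (LinearMap.mulRight k z).dualMap ∘ₗ
    (CartDual.toDual k (uL φ)).toLinearMap

theorem Rt_apply (z : uL φ) (f : AD φ) (u : uL φ) : (Rt φ z f).ofConv u = f.ofConv (u * z) := rfl

theorem Rt_add (z w : uL φ) : Rt φ (z + w) = Rt φ z + Rt φ w := by
  apply LinearMap.ext
  intro f
  apply WithConv.ext
  apply LinearMap.ext
  intro u
  rw [Rt_apply, LinearMap.add_apply, WithConv.ofConv_add, LinearMap.add_apply, Rt_apply, Rt_apply,
    mul_add, map_add]

theorem Rt_smul (c : k) (z : uL φ) : Rt φ (c • z) = c • Rt φ z := by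
  apply LinearMap.ext
  intro f
  apply WithConv.ext
  apply LinearMap.ext
  intro u
  rw [Rt_apply, LinearMap.smul_apply, WithConv.ofConv_smul, LinearMap.smul_apply, Rt_apply,
    mul_smul_comm, map_smul]

theorem Rt_comp (z w : uL φ) : Rt φ z ∘ₗ Rt φ w = Rt φ (z * w) := by
  apply LinearMap.ext
  intro f
  apply WithConv.ext
  apply LinearMap.ext
  intro u
  rw [LinearMap.comp_apply, Rt_apply, Rt_apply, Rt_apply, mul_assoc]

theorem Rt_pow (z : uL φ) (n : ℕ) : (Rt φ z) ^ n = Rt φ (z ^ n) := by
  induction n with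
  | zero =>
    rw [pow_zero, pow_zero]
    apply LinearMap.ext
    intro f
    apply WithConv.ext
    apply LinearMap.ext
    intro u
    rw [Rt_apply, mul_one]
    rfl
  | succ n ih =>
    rw [pow_succ, ih, pow_succ, ← Rt_comp]
    rfl

theorem conv_mul_tmul_left (f g : AD φ) (z : uL φ) (X : uL φ ⊗[k] uL φ) :
    LinearMap.mul' k k (TensorProduct.map f.ofConv g.ofConv (X * (z ⊗ₜ[k] (1 : uL φ)))) =
      LinearMap.mul' k k (TensorProduct.map (Rt φ z f).ofConv g.ofConv X) := by
  induction X using TensorProduct.induction_on with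
  | zero => simp
  | tmul a b =>
    rw [Algebra.TensorProduct.tmul_mul_tmul, TensorProduct.map_tmul, TensorProduct.map_tmul,
      Rt_apply, mul_one]
  | add X Y hX hY => simp only [add_mul, map_add, hX, hY]

theorem conv_mul_tmul_right (f g : AD φ) (z : uL φ) (X : uL φ ⊗[k] uL φ) :
    LinearMap.mul' k k (TensorProduct.map f.ofConv g.ofConv (X * ((1 : uL φ) ⊗ₜ[k] z))) =
      LinearMap.mul' k k (TensorProduct.map f.ofConv (Rt φ z g).ofConv X) := by
  induction X using TensorProduct.induction_on with
  | zero => simp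
  | tmul a b =>
    rw [Algebra.TensorProduct.tmul_mul_tmul, TensorProduct.map_tmul, TensorProduct.map_tmul,
      Rt_apply, mul_one]
  | add X Y hX hY => simp only [add_mul, map_add, hX, hY]

/-- Right translation by a primitive element is a derivation of the convolution algebra. -/
theorem Rt_mul (z : uL φ)
    (hz : Coalgebra.comul (R := k) z = z ⊗ₜ[k] (1 : uL φ) + (1 : uL φ) ⊗ₜ[k] z) (f g : AD φ) :
    Rt φ z (f * g) = f * Rt φ z g + Rt φ z f * g := by
  apply WithConv.ext
  apply LinearMap.ext
  intro u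
  rw [Rt_apply, WithConv.ofConv_add, LinearMap.add_apply]
  change LinearMap.mul' k k (TensorProduct.map f.ofConv g.ofConv (Coalgebra.comul (R := k) (u * z))) =
    LinearMap.mul' k k (TensorProduct.map f.ofConv (Rt φ z g).ofConv (Coalgebra.comul (R := k) u)) +
    LinearMap.mul' k k (TensorProduct.map (Rt φ z f).ofConv g.ofConv (Coalgebra.comul (R := k) u))
  rw [Bialgebra.comul_mul, hz, mul_add, map_add, map_add, conv_mul_tmul_left, conv_mul_tmul_right,
    add_comm]

end Dual

end Groth.Agent.Lib.Helper84.RLie
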