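import Groth.Agent.Lib.Helper84.RLie.UDual

/-!
# Left-invariant derivations of the dual of `u(L)`

For finite-dimensional `u(L)`: the map `x ↦ R_x` identifies `L` with the left-invariant
derivations of the commutative Hopf algebra `u(L)^*`, and `f^p = 0` on the augmentation ideal.
-/

set_option linter.unusedSectionVars false
set_option linter.unusedVariables false
set_option linter.style.longLine false

universe u v w

open TensorProduct

namespace Groth.Agent.Lib.Helper84.RLie

attribute [local instance 100] LieRing.ofAssociativeRing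

section Fin

variable {k : Type u} [Field k] {p : ℕ} [hp : Fact p.Prime] [CharP k p]
  {L : Type v} [LieRing L] [LieAlgebra k L] (φ : PLie.PMap k p L)

theorem mul_apply_one (f g : AD φ) : (f * g).ofConv 1 = f.ofConv 1 * g.ofConv 1 := by
  change LinearMap.mul' k k (TensorProduct.map f.ofConv g.ofConv
    (Coalgebra.comul (R := k) (1 : uL φ))) = _
  rw [Bialgebra.comul_one, Algebra.TensorProduct.one_def, TensorProduct.map_tmul,
    LinearMap.mul'_apply]

theorem pow_apply_one (f : AD φ) (n : ℕ) : (f ^ n).ofConv 1 = (f.ofConv 1) ^ n := by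
  induction n with
  | zero =>
    rw [pow_zero, pow_zero]
    change algebraMap k k (Coalgebra.counit (R := k) (1 : uL φ)) = 1
    rw [Bialgebra.counit_one, map_one]
  | succ n ih => rw [pow_succ, pow_succ, mul_apply_one, ih]

/-- The derivation `R_z` of the dual, for a primitive element `z`. -/
noncomputable def Dz (z : uL φ)
    (hz : Coalgebra.comul (R := k) z = z ⊗ₜ[k] (1 : uL φ) + (1 : uL φ) ⊗ₜ[k] z) :
    Derivation k (AD φ) (AD φ) :=
  Derivation.mk' (Rt φ z) (fun f g => by
    rw [Rt_mul φ z hz, smul_eq_mul, smul_eq_mul, mul_comm g])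

theorem Dz_toLinearMap (z : uL φ)
    (hz : Coalgebra.comul (R := k) z = z ⊗ₜ[k] (1 : uL φ) + (1 : uL φ) ⊗ₜ[k] z) :
    (Dz φ z hz).toLinearMap = Rt φ z := rfl

theorem Dz_apply (z : uL φ)
    (hz : Coalgebra.comul (R := k) z = z ⊗ₜ[k] (1 : uL φ) + (1 : uL φ) ⊗ₜ[k] z) (f : AD φ) :
    Dz φ z hz f = Rt φ z f := rfl

/-- The map `x ↦ R_x` from `L` to the derivations of `u(L)^*`. -/
noncomputable def eL : L →ₗ[k] Derivation k (AD φ) (AD φ) where
  toFun x := Dz φ (ιu φ x) (comul_ιu φ x)
  map_add' x y := by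
    apply Derivation.ext
    intro f
    rw [Derivation.add_apply, Dz_apply, Dz_apply, Dz_apply, map_add, Rt_add, LinearMap.add_apply]
  map_smul' c x := by
    apply Derivation.ext
    intro f
    rw [RingHom.id_apply, Derivation.smul_apply, Dz_apply, Dz_apply, map_smul, Rt_smul,
      LinearMap.smul_apply]

theorem eL_apply (x : L) (f : AD φ) : eL φ x f = Rt φ (ιu φ x) f := rfl

theorem eL_toLinearMap (x : L) : (eL φ x).toLinearMap = Rt φ (ιu φ x) := rfl

theorem eL_lie (x y : L) : eL φ ⁅x, y⁆ = ⁅eL φ x, eL φ y⁆ := by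
  apply Derivation.ext
  intro f
  rw [Derivation.commutator_apply, eL_apply, eL_apply, eL_apply, eL_apply, eL_apply, ιu_lie,
    ← LinearMap.comp_apply, ← LinearMap.comp_apply, Rt_comp, Rt_comp, ← LinearMap.sub_apply]
  apply congrFun
  apply congrArg
  apply LinearMap.ext
  intro g
  apply WithConv.ext
  apply LinearMap.ext
  intro u
  rw [Rt_apply, LinearMap.sub_apply, WithConv.ofConv_sub, LinearMap.sub_apply, Rt_apply, Rt_apply,
    mul_sub, map_sub]

theorem eL_pmap (x : L) : (eL φ (φ x)).toLinearMap = (eL φ x).toLinearMap ^ p := by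
  rw [eL_toLinearMap, eL_toLinearMap, Rt_pow, ιu_pmap]

/-- `f^p` is killed by `R_x`. -/
theorem Rt_pow_p (x : L) (f : AD φ) : Rt φ (ιu φ x) (f ^ p) = 0 := by
  have h := (eL φ x).leibniz_pow (a := f) p
  rw [eL_apply] at h
  rw [h, ← Nat.cast_smul_eq_nsmul k, CharP.cast_eq_zero k p, zero_smul]

/-- `u(L)` is spanned by `1` and the multiples `u * x`, `x ∈ L`. -/
theorem span_one_mul_ιu :
    (⊤ : Submodule k (uL φ)) ≤
      Submodule.span k ({1} ∪ {w | ∃ (u : uL φ) (x : L), w = u * ιu φ x}) := by
  set M := Submodule.span k (({1} : Set (uL φ)) ∪ {w | ∃ (u : uL φ) (x : L), w = u * ιu φ x})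
    with hM
  rintro v -
  have hv : v ∈ Algebra.adjoin k (Set.range (ιu φ)) := by rw [adjoin_range_ιu]; trivial
  induction hv using Algebra.adjoin_induction with
  | mem g hg =>
    obtain ⟨x, rfl⟩ := hg
    exact Submodule.subset_span (Or.inr ⟨1, x, (one_mul _).symm⟩)
  | algebraMap r =>
    rw [Algebra.algebraMap_eq_smul_one]
    exact Submodule.smul_mem _ _ (Submodule.subset_span (Or.inl rfl))
  | add a b _ _ ha hb => exact add_mem ha hb
  | mul a b hax hbx ha hb =>
    clear hbx
    induction hb using Submodule.span_induction with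
    | mem w hw =>
      rcases hw with hw | ⟨u, x, rfl⟩
      · rw [Set.mem_singleton_iff.mp hw, mul_one]
        exact ha
      · rw [← mul_assoc]
        exact Submodule.subset_span (Or.inr ⟨a * u, x, rfl⟩)
    | zero => rw [mul_zero]; exact zero_mem _
    | add y z _ _ hy hz => rw [mul_add]; exact add_mem hy hz
    | smul c y _ hy => rw [mul_smul_comm]; exact Submodule.smul_mem _ _ hy

/-- Height at most one: `f^p = 0` for `f` in the augmentation ideal of `u(L)^*`. -/
theorem pow_p_eq_zero (f : AD φ) (hf : f.ofConv 1 = 0) : f ^ p = 0 := by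
  apply WithConv.ext
  apply LinearMap.ext
  intro v
  have hv : v ∈ Submodule.span k (({1} : Set (uL φ)) ∪ {w | ∃ (u : uL φ) (x : L), w = u * ιu φ x}) :=
    span_one_mul_ιu φ trivial
  change (f ^ p).ofConv v = 0
  induction hv using Submodule.span_induction with
  | mem w hw =>
    rcases hw with hw | ⟨u, x, rfl⟩
    · rw [Set.mem_singleton_iff.mp hw, pow_apply_one, hf, zero_pow hp.out.ne_zero]
    · rw [← Rt_apply, Rt_pow_p]
      rfl
  | zero => rw [map_zero]
  | add y z _ _ hy hz => rw [map_add, hy, hz, add_zero]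
  | smul c y _ hy => rw [map_smul, hy, smul_zero]

end Fin

end Groth.Agent.Lib.Helper84.RLie
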