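import Groth.Agent.Lib.Helper84.RLie.UDual2

/-!
# Left-invariant derivations of `u(L)^*` are exactly `L`
-/

set_option linter.unusedSectionVars false
set_option linter.unusedVariables false
set_option linter.style.longLine false

universe u v w

open TensorProduct

namespace Groth.Agent.Lib.Helper84.RLie

attribute [local instance 100] LieRing.ofAssociativeRing

section Fin

variable {k : Type u} [Field k] {p : ℕ} [hp : Fact p.Prime] [CharP k p]
  {L : Type v} [LieRing L] [LieAlgebra k L] (φ : PLie.PMap k p L) [Module.Finite k (uL φ)]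

theorem ev₂_lTensor_Rt (z : uL φ) (y : AD φ ⊗[k] AD φ) (a b : uL φ) :
    CartDual.ev₂ k (uL φ) ((Rt φ z).lTensor (AD φ) y) (a ⊗ₜ[k] b) =
      CartDual.ev₂ k (uL φ) y (a ⊗ₜ[k] (b * z)) := by
  induction y using TensorProduct.induction_on with
  | zero => simp
  | tmul f g =>
    rw [LinearMap.lTensor_tmul, CartDual.ev₂_tmul, CartDual.ev₂_tmul]
    rfl
  | add y y' hy hy' => simp only [map_add, LinearMap.add_apply, hy, hy']

/-- Right translations are left-invariant. -/
theorem Rt_leftInvariant (z : uL φ) :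
    (Coalgebra.comul : AD φ →ₗ[k] AD φ ⊗[k] AD φ) ∘ₗ Rt φ z =
      (Rt φ z).lTensor (AD φ) ∘ₗ (Coalgebra.comul : AD φ →ₗ[k] AD φ ⊗[k] AD φ) := by
  apply LinearMap.ext
  intro h
  apply (CartDual.ev₂ k (uL φ)).injective
  apply TensorProduct.ext'
  intro a b
  rw [LinearMap.comp_apply, LinearMap.comp_apply, ev₂_lTensor_Rt,
    CartDual.ev₂_coalgebra_comul_tmul, CartDual.ev₂_coalgebra_comul_tmul]
  change ((Rt φ z) h).ofConv (a * b) = h.ofConv (a * (b * z))
  rw [Rt_apply, mul_assoc]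

theorem exists_eval (lam : AD φ →ₗ[k] k) : ∃ z : uL φ, ∀ f : AD φ, f.ofConv z = lam f := by
  let lam' : Module.Dual k (Module.Dual k (uL φ)) :=
    lam ∘ₗ (CartDual.toDual k (uL φ)).symm.toLinearMap
  refine ⟨(Module.evalEquiv k (uL φ)).symm lam', fun f => ?_⟩
  rw [Module.apply_evalEquiv_symm_apply]
  rfl

theorem ev₂_lTensor_of_eval (T : AD φ →ₗ[k] AD φ) (z : uL φ)
    (hT : ∀ g : AD φ, (T g).ofConv 1 = g.ofConv z) (y : AD φ ⊗[k] AD φ) (u : uL φ) :
    CartDual.ev₂ k (uL φ) (T.lTensor (AD φ) y) (u ⊗ₜ[k] (1 : uL φ)) =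
      CartDual.ev₂ k (uL φ) y (u ⊗ₜ[k] z) := by
  induction y using TensorProduct.induction_on with
  | zero => simp
  | tmul f g =>
    rw [LinearMap.lTensor_tmul, CartDual.ev₂_tmul, CartDual.ev₂_tmul]
    change f.ofConv u * (T g).ofConv 1 = f.ofConv u * g.ofConv z
    rw [hT]
  | add y y' hy hy' => simp only [map_add, LinearMap.add_apply, hy, hy']

/-- A left-invariant operator is the right translation by the element representing `f ↦ (T f)(1)`. -/
theorem eq_Rt_of_leftInvariant (T : AD φ →ₗ[k] AD φ)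
    (hT : (Coalgebra.comul : AD φ →ₗ[k] AD φ ⊗[k] AD φ) ∘ₗ T =
      T.lTensor (AD φ) ∘ₗ (Coalgebra.comul : AD φ →ₗ[k] AD φ ⊗[k] AD φ))
    (z : uL φ) (hz : ∀ g : AD φ, (T g).ofConv 1 = g.ofConv z) : T = Rt φ z := by
  apply LinearMap.ext
  intro h
  apply WithConv.ext
  apply LinearMap.ext
  intro u
  have h1 := CartDual.ev₂_coalgebra_comul_tmul k (uL φ) (T h) u 1
  have h2 := LinearMap.congr_fun hT h
  rw [LinearMap.comp_apply, LinearMap.comp_apply] at h2
  rw [h2, ev₂_lTensor_of_eval φ T z hz, CartDual.ev₂_coalgebra_comul_tmul, mul_one] at h1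
  rw [Rt_apply]
  exact h1.symm

theorem separating (X : uL φ ⊗[k] uL φ)
    (h : ∀ f g : AD φ, LinearMap.mul' k k (TensorProduct.map f.ofConv g.ofConv X) = 0) : X = 0 := by
  rw [← Module.forall_dual_apply_eq_zero_iff k X]
  intro ψ
  obtain ⟨y, rfl⟩ := (CartDual.ev₂ k (uL φ)).surjective ψ
  induction y using TensorProduct.induction_on with
  | zero => simp
  | tmul f g =>
    rw [CartDual.ev₂_tmul_eq']
    exact h f g
  | add y y' hy hy' => rw [map_add, LinearMap.add_apply, hy, hy', add_zero]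

/-- The element representing a derivation at the identity is primitive. -/
theorem prim_of_derivation (D : Derivation k (AD φ) (AD φ)) (z : uL φ)
    (hz : ∀ g : AD φ, (D g).ofConv 1 = g.ofConv z) :
    Coalgebra.comul (R := k) z = z ⊗ₜ[k] (1 : uL φ) + (1 : uL φ) ⊗ₜ[k] z := by
  rw [← sub_eq_zero]
  apply separating φ
  intro f g
  have h1 : LinearMap.mul' k k (TensorProduct.map f.ofConv g.ofConv (Coalgebra.comul (R := k) z)) =
      (D (f * g)).ofConv 1 := (hz (f * g)).symm
  rw [map_sub, map_sub, h1, D.leibniz, WithConv.ofConv_add, LinearMap.add_apply, smul_eq_mul,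
    smul_eq_mul, mul_apply_one, mul_apply_one, hz, hz, map_add, map_add, TensorProduct.map_tmul,
    TensorProduct.map_tmul, LinearMap.mul'_apply, LinearMap.mul'_apply]
  ring

theorem eL_injective {ι : Type w} [LinearOrder ι] (b : Module.Basis ι k L) :
    Function.Injective (eL φ) := by
  rw [injective_iff_map_eq_zero]
  intro x hx
  apply ιu_injective φ b
  rw [map_zero, ← Module.forall_dual_apply_eq_zero_iff k (ιu φ x)]
  intro ψ
  have h1 : (eL φ x (WithConv.toConv ψ)).ofConv 1 = 0 := by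
    rw [hx]
    rfl
  rw [eL_apply, Rt_apply, one_mul] at h1
  exact h1

/-- The image of `L` is exactly the set of left-invariant derivations. -/
theorem range_eL {ι : Type w} [LinearOrder ι] (b : Module.Basis ι k L) :
    Set.range (eL φ) = {D : Derivation k (AD φ) (AD φ) |
      (Coalgebra.comul : AD φ →ₗ[k] AD φ ⊗[k] AD φ) ∘ₗ D.toLinearMap =
        D.toLinearMap.lTensor (AD φ) ∘ₗ (Coalgebra.comul : AD φ →ₗ[k] AD φ ⊗[k] AD φ)} := by
  apply Set.eq_of_subset_of_subset
  · rintro _ ⟨x, rfl⟩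
    change _ ∘ₗ (eL φ x).toLinearMap = _
    rw [eL_toLinearMap]
    exact Rt_leftInvariant φ _
  · intro D hD
    have hD' : (Coalgebra.comul : AD φ →ₗ[k] AD φ ⊗[k] AD φ) ∘ₗ D.toLinearMap =
        D.toLinearMap.lTensor (AD φ) ∘ₗ (Coalgebra.comul : AD φ →ₗ[k] AD φ ⊗[k] AD φ) := hD
    obtain ⟨z, hz⟩ := exists_eval φ ((CartDual.counit k (uL φ)) ∘ₗ D.toLinearMap)
    have hz' : ∀ g : AD φ, (D g).ofConv 1 = g.ofConv z := fun g => (hz g).symm
    have hprim := prim_of_derivation φ D z hz'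
    obtain ⟨x, rfl⟩ := mem_range_ιu_of_prim φ b z hprim
    refine ⟨x, ?_⟩
    apply Derivation.ext
    intro f
    rw [eL_apply]
    have := eq_Rt_of_leftInvariant φ D.toLinearMap hD' _ hz'
    exact (LinearMap.congr_fun this f).symm

end Fin

end Groth.Agent.Lib.Helper84.RLie
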