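import Groth.Agent.Lib.Helper99.PLieJac
import Groth.Agent.Lib.Helper85.PBW.Span

/-!
# The `p`-semilinear central map `ξ x = (ι x)^p - ι (x^[p])` of a restricted Lie algebra
-/

set_option linter.unusedSectionVars false
set_option linter.unusedVariables false
set_option linter.style.longLine false

universe u v

namespace Groth.Agent.Lib.Helper84.RLie

attribute [local instance 100] LieRing.ofAssociativeRing

open Groth.Agent.Lib.Helper99.Jac Groth.Agent.Lib.Helper99.PLieJac

section Gen

variable {k : Type u} [CommRing k] {L : Type v} [LieRing L] [LieAlgebra k L]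

/-- A subalgebra of `U(L)` containing `ι(L)` is everything. -/
theorem mem_of_ι_mem (S : Subalgebra k (UniversalEnvelopingAlgebra k L))
    (h : ∀ z : L, UniversalEnvelopingAlgebra.ι k z ∈ S) (u : UniversalEnvelopingAlgebra k L) :
    u ∈ S := by
  obtain ⟨t, rfl⟩ : ∃ t, UniversalEnvelopingAlgebra.mkAlgHom k L t = u :=
    RingCon.mkₐ_surjective _ u
  induction t using TensorAlgebra.induction with
  | algebraMap r =>
    rw [AlgHom.commutes]
    exact S.algebraMap_mem r
  | ι x => exact h x
  | mul x y hx hy => rw [map_mul]; exact S.mul_mem hx hy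
  | add x y hx hy => rw [map_add]; exact S.add_mem hx hy

theorem ι_lie (x y : L) :
    UniversalEnvelopingAlgebra.ι k ⁅x, y⁆ =
      cm (UniversalEnvelopingAlgebra.ι k x) (UniversalEnvelopingAlgebra.ι k y) := by
  rw [LieHom.map_lie, LieRing.of_associative_ring_bracket]
  rfl

end Gen

section Xi

variable {k : Type u} [Field k] {p : ℕ} [hp : Fact p.Prime] [CharP k p]
  {L : Type v} [LieRing L] [LieAlgebra k L] (φ : PLie.PMap k p L)

/-- `ξ x = (ι x)^p - ι (x^[p])`. -/
noncomputable def xi (x : L) : UniversalEnvelopingAlgebra k L :=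
  UniversalEnvelopingAlgebra.ι k x ^ p - UniversalEnvelopingAlgebra.ι k (φ x)

/-- `ι` as a `k`-linear map. -/
noncomputable def ιLin : L →ₗ[k] UniversalEnvelopingAlgebra k L :=
  ((UniversalEnvelopingAlgebra.ι k : L →ₗ⁅k⁆ UniversalEnvelopingAlgebra k L) :
    L →ₗ[k] UniversalEnvelopingAlgebra k L)

theorem ιLin_apply (x : L) : ιLin (k := k) x = UniversalEnvelopingAlgebra.ι k x := rfl

theorem cm_xi_ι (x y : L) : cm (xi φ x) (UniversalEnvelopingAlgebra.ι k y) = 0 := by
  have hA : ((p : ℕ) : UniversalEnvelopingAlgebra k L) = 0 := natCast_eq_zero_alg k p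
  have h1 : cm (UniversalEnvelopingAlgebra.ι k x ^ p) (UniversalEnvelopingAlgebra.ι k y) =
      cm (UniversalEnvelopingAlgebra.ι k (φ x)) (UniversalEnvelopingAlgebra.ι k y) := by
    rw [← adn_prime hp.out hA]
    have h2 := map_adn (R := k) (ιLin (k := k) (L := L)) (fun a b => ι_lie a b) x y p
    rw [ιLin_apply, ιLin_apply, ιLin_apply] at h2
    rw [← h2, ← φ.ad_map x, LieAlgebra.ad_apply, ι_lie]
  unfold xi
  unfold cm at h1 ⊢
  rw [sub_mul, mul_sub, sub_sub_sub_comm, h1, sub_self]

theorem xi_comm (x : L) (u : UniversalEnvelopingAlgebra k L) : xi φ x * u = u * xi φ x := by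
  have h := mem_of_ι_mem (Subalgebra.centralizer k {xi φ x}) ?_ u
  · rw [Subalgebra.mem_centralizer_iff] at h
    exact h (xi φ x) rfl
  · intro z
    rw [Subalgebra.mem_centralizer_iff]
    intro g hg
    rw [Set.mem_singleton_iff] at hg
    subst hg
    have := cm_xi_ι φ x z
    unfold cm at this
    exact sub_eq_zero.mp this

theorem xi_add (x y : L) : xi φ (x + y) = xi φ x + xi φ y := by
  unfold xi
  rw [map_add, jacobson_formula k p, φ.map_add, map_sub, map_add]
  have h := map_jacobson (R := k) (p := p) (ιLin (k := k) (L := L)) (fun a b => ι_lie a b) x y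
  rw [ιLin_apply, ιLin_apply, ιLin_apply] at h
  rw [h]
  abel

theorem xi_smul (c : k) (x : L) : xi φ (c • x) = c ^ p • xi φ x := by
  unfold xi
  rw [map_smul, φ.map_smul, map_smul, smul_pow, smul_sub]

theorem xi_zero : xi φ (0 : L) = 0 := by
  have := xi_smul φ (0 : k) (0 : L)
  rw [zero_smul, zero_pow hp.out.ne_zero, zero_smul] at this
  exact this

/-- `ξ` of a finite linear combination. -/
theorem xi_sum {ι' : Type*} (s : Finset ι') (c : ι' → k) (x : ι' → L) :
    xi φ (∑ i ∈ s, c i • x i) = ∑ i ∈ s, (c i) ^ p • xi φ (x i) := by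
  classical
  induction s using Finset.induction_on with
  | empty => simp [xi_zero]
  | insert a s ha ih =>
    rw [Finset.sum_insert ha, Finset.sum_insert ha, xi_add, xi_smul, ih]

end Xi

end Groth.Agent.Lib.Helper84.RLie
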